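import Cfsg.Agent.Lib.RankFourRadical.Free
import Cfsg.Agent.Lib.PGroup.Basic

/-!
# Frattini subgroups of normal 2-subgroups and central elementary layers
-/

set_option autoImplicit false

namespace Cfsg.Agent.RankFourRadical

open Subgroup
open scoped commutatorElement

section

variable {G : Type*} [Group G] [Finite G]

/-- The Frattini subgroup of `Q`, as a subgroup of the ambient group. -/
def phi (Q : Subgroup G) : Subgroup G := (frattini Q).map Q.subtype

theorem phi_le (Q : Subgroup G) : phi Q ≤ Q := map_subtype_le _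

instance phi_normal (Q : Subgroup G) [Q.Normal] : (phi Q).Normal :=
  ConjAct.normal_of_characteristic_of_normal

theorem sq_mem_phi {Q : Subgroup G} (hQ : IsPGroup 2 Q) {a : G} (ha : a ∈ Q) : a * a ∈ phi Q :=
  haveI : Fact (Nat.Prime 2) := ⟨Nat.prime_two⟩
  ⟨⟨a, ha⟩ ^ 2, PGroup.pow_mem_frattini hQ _, by simp [pow_two]⟩

theorem comm_mem_phi {Q : Subgroup G} (hQ : IsPGroup 2 Q) {a b : G} (ha : a ∈ Q) (hb : b ∈ Q) :
    a * b * a⁻¹ * b⁻¹ ∈ phi Q :=
  haveI : Fact (Nat.Prime 2) := ⟨Nat.prime_two⟩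
  ⟨⁅(⟨a, ha⟩ : Q), ⟨b, hb⟩⁆, PGroup.commutatorElement_mem_frattini hQ _ _, by simp [commutatorElement_def]⟩

/-- A normal subgroup with all squares of `Q` contains `Φ(Q)`. -/
theorem phi_le_of_sq {Q K : Subgroup G} [K.Normal] (h : ∀ a ∈ Q, a * a ∈ K) : phi Q ≤ K := by
  haveI : Fact (Nat.Prime 2) := ⟨Nat.prime_two⟩
  have hc : _root_.commutator Q ≤ K.subgroupOf Q := by
    rw [← Subgroup.Normal.quotient_commutative_iff_commutator_le]
    refine ⟨⟨fun u v => ?_⟩⟩
    have hexp : ∀ c : Q ⧸ K.subgroupOf Q, c * c = 1 := fun c => by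
      obtain ⟨x, rfl⟩ := QuotientGroup.mk_surjective c
      rw [← QuotientGroup.mk_mul, QuotientGroup.eq_one_iff]
      exact h _ x.2
    have hi : ∀ c : Q ⧸ K.subgroupOf Q, c⁻¹ = c := fun c => inv_eq_of_mul_eq_one_right (hexp c)
    rw [← hi (u * v), mul_inv_rev, hi, hi]
  have := PGroup.frattini_le_of_quotient_elementary (p := 2) hc fun x => by
    rw [pow_two]; exact h _ x.2
  rintro _ ⟨x, hx, rfl⟩
  exact this hx

/-- `K` makes the layer `T` elementary and central in `Q`. -/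
structure Layer (Q T K : Subgroup G) : Prop where
  normal : K.Normal
  le : K ≤ T
  sq : ∀ t ∈ T, t * t ∈ K
  comm : ∀ t ∈ T, ∀ a ∈ Q, t * a * t⁻¹ * a⁻¹ ∈ K

theorem Layer.mk_comm {Q T K : Subgroup G} (h : Layer Q T K) [K.Normal] {t a : G} (ht : t ∈ T) (ha : a ∈ Q) :
    (t : G ⧸ K) * a = a * t := by
  rw [← mul_inv_eq_one, mul_inv_rev, ← mul_assoc, ← QuotientGroup.mk_inv, ← QuotientGroup.mk_inv,
    ← QuotientGroup.mk_mul, ← QuotientGroup.mk_mul, ← QuotientGroup.mk_mul, QuotientGroup.eq_one_iff]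
  exact h.comm t ht a ha

theorem Layer.mk_sq {Q T K : Subgroup G} (h : Layer Q T K) [K.Normal] {t : G} (ht : t ∈ T) :
    (t : G ⧸ K) * t = 1 := by
  rw [← QuotientGroup.mk_mul, QuotientGroup.eq_one_iff]
  exact h.sq t ht

/-- A nontrivial normal subgroup in a normal 2-subgroup has a proper layer. -/
theorem exists_layer {Q T : Subgroup G} [Q.Normal] [T.Normal] (hQ : IsPGroup 2 Q) (hTQ : T ≤ Q)
    (hne : T ≠ ⊥) : ∃ K, Layer Q T K ∧ K < T := by
  haveI : Fact (Nat.Prime 2) := ⟨Nat.prime_two⟩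
  obtain ⟨K, -, ⟨⟨hKn, hKlt⟩, hmax⟩⟩ := Finite.exists_le_maximal (α := Subgroup G)
    (p := fun K => K.Normal ∧ K < T) (a := ⊥) ⟨inferInstance, bot_lt_iff_ne_bot.2 hne⟩
  haveI := hKn
  set π := QuotientGroup.mk' K
  haveI hQn : (Q.map π).Normal := Normal.map inferInstance π (QuotientGroup.mk'_surjective K)
  haveI hTn : (T.map π).Normal := Normal.map inferInstance π (QuotientGroup.mk'_surjective K)
  have hker : π.ker = K := QuotientGroup.ker_mk' K
  have hall : ∀ U : Subgroup (G ⧸ K), U.Normal → U ≤ T.map π → U ≠ ⊥ → U = T.map π := by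
    intro U hU hUT hne'
    have hcm : (T.map π).comap π = T := by
      rw [comap_map_eq, hker, sup_eq_left.2 hKlt.le]
    have hle : U.comap π ≤ T := (comap_mono hUT).trans_eq hcm
    have hKU : K ≤ U.comap π := hker.symm.trans_le (ker_le_comap π U)
    have heq : U.comap π = T := by
      by_contra hcon
      have hlt : U.comap π < T := lt_of_le_of_ne hle hcon
      have : U.comap π ≤ K := hmax ⟨hU.comap π, hlt⟩ hKU
      apply hne'
      rw [← map_comap_eq_self_of_surjective (QuotientGroup.mk'_surjective K) U, eq_bot_iff]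
      exact (map_mono this).trans (by rw [QuotientGroup.map_mk'_self])
    rw [← heq, map_comap_eq_self_of_surjective (QuotientGroup.mk'_surjective K)]
  have hTb : T.map π ≠ ⊥ := by
    rw [ne_eq, Subgroup.map_eq_bot_iff, hker]
    exact hKlt.not_ge
  have hZ : T.map π ≤ centralizer (Q.map π : Set (G ⧸ K)) := by
    have hp : IsPGroup 2 (Q.map π) := hQ.map π
    have hne2 : (T.map π).subgroupOf (Q.map π) ≠ ⊥ := by
      rw [ne_eq, subgroupOf_eq_bot, disjoint_iff, inf_eq_left.2 (map_mono hTQ)]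
      exact hTb
    obtain ⟨x, hx1⟩ := Subgroup.ne_bot_iff_exists_ne_one.1 (PGroup.inf_center_ne_bot hp hne2)
    have hx := x.2
    have := hall (T.map π ⊓ centralizer (Q.map π : Set (G ⧸ K))) inferInstance inf_le_left (fun h => hx1 (by
      have hmem : ((x : Q.map π) : G ⧸ K) ∈ T.map π ⊓ centralizer (Q.map π : Set (G ⧸ K)) :=
        ⟨hx.1, mem_centralizer_iff.2 fun q hq => congrArg Subtype.val ((mem_center_iff.1 hx.2) ⟨q, hq⟩)⟩
      rw [h, mem_bot] at hmem
      exact Subtype.ext (Subtype.ext hmem)))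
    exact inf_eq_left.1 this
  let Ω : Subgroup (G ⧸ K) :=
    { carrier := {t | t ∈ T.map π ∧ t * t = 1}
      one_mem' := ⟨one_mem _, one_mul 1⟩
      mul_mem' := fun {a b} ha hb => ⟨mul_mem ha.1 hb.1, by
        have hc : b * a = a * b := (mem_centralizer_iff.1 (hZ ha.1) b (map_mono hTQ hb.1))
        rw [mul_assoc, ← mul_assoc b, hc, mul_assoc a b b, hb.2, mul_one, ha.2]⟩
      inv_mem' := fun {a} ha => ⟨inv_mem ha.1, by rw [← mul_inv_rev, ha.2, inv_one]⟩ }
  have hΩn : Ω.Normal := ⟨fun t ht g => ⟨hTn.conj_mem t ht.1 g, by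
    rw [show g * t * g⁻¹ * (g * t * g⁻¹) = g * (t * t) * g⁻¹ by group, ht.2]; group⟩⟩
  have hΩ : Ω = T.map π := hall Ω hΩn (fun t ht => ht.1) (by
    have hp : IsPGroup 2 (T.map π) := (hQ.to_le hTQ).map π
    haveI : Nontrivial (T.map π) := (nontrivial_iff_ne_bot _).2 hTb
    obtain ⟨k, hk0, hk⟩ := hp.nontrivial_iff_card.1 inferInstance
    obtain ⟨t, ht⟩ := exists_prime_orderOf_dvd_card' (G := T.map π) 2 (hk ▸ dvd_pow_self 2 hk0.ne')
    intro h
    have hmem : ((t : T.map π) : G ⧸ K) ∈ Ω := ⟨t.2, by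
      rw [← Subgroup.coe_mul, ← pow_two, ← ht, pow_orderOf_eq_one]; rfl⟩
    rw [h, mem_bot] at hmem
    rw [show t = 1 from Subtype.ext hmem] at ht
    simp at ht)
  refine ⟨K, ⟨hKn, hKlt.le, fun t ht => ?_, fun t ht a ha => ?_⟩, hKlt⟩
  · have : π t ∈ Ω := hΩ ▸ mem_map_of_mem π ht
    rw [← QuotientGroup.eq_one_iff]
    exact this.2
  · rw [← QuotientGroup.eq_one_iff, QuotientGroup.mk_mul, QuotientGroup.mk_mul, QuotientGroup.mk_mul,
      QuotientGroup.mk_inv, QuotientGroup.mk_inv, mul_inv_eq_one, mul_inv_eq_iff_eq_mul]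
    exact (mem_centralizer_iff.1 (hZ (mem_map_of_mem π ht)) _ (mem_map_of_mem π ha)).symm

/-- The smallest layer. -/
def minLayer (Q T : Subgroup G) : Subgroup G := ⨅ K : {K : Subgroup G // Layer Q T K}, K.1

theorem minLayer_le {Q T K : Subgroup G} (h : Layer Q T K) : minLayer Q T ≤ K :=
  iInf_le (fun K : {K : Subgroup G // Layer Q T K} => K.1) ⟨K, h⟩

theorem layer_minLayer {Q T : Subgroup G} [Q.Normal] [T.Normal] (hQ : IsPGroup 2 Q) (hTQ : T ≤ Q)
    (hne : T ≠ ⊥) : Layer Q T (minLayer Q T) ∧ minLayer Q T < T := by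
  obtain ⟨K₀, h₀, hlt⟩ := exists_layer hQ hTQ hne
  refine ⟨⟨normal_iInf_normal fun K => K.2.normal, (minLayer_le h₀).trans h₀.le,
    fun t ht => mem_iInf.2 fun K => K.2.sq t ht, fun t ht a ha => mem_iInf.2 fun K => K.2.comm t ht a ha⟩,
    (minLayer_le h₀).trans_lt hlt⟩

end

end Cfsg.Agent.RankFourRadical
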