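import Cfsg.Agent.Lib.RankFourRadical.Basic

/-!
# The Frattini subgroup of the radical has order two

Main result `Setting.card_phi_le`: `|Φ(Q)| ≤ 2`.
-/

set_option autoImplicit false

namespace Cfsg.Agent.RankFourRadical

open Subgroup

/-- A normal 2-subgroup with Frattini quotient of order 16, elements `y` (order 5, without fixed points
on the quotient), `n` inverting `y` outside `Q`, and `w` (order 3, nontrivial on the quotient). -/
structure Setting {G : Type*} [Group G] (Q : Subgroup G) (y n w : G) : Prop where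
  sect : Sect4 G
  two : IsPGroup 2 Q
  y5 : y ^ 5 = 1
  w3 : w ^ 3 = 1
  inv : n * y * n⁻¹ = y⁻¹
  n_notin : n ∉ Q
  nn : n * n ∈ Q
  card : Nat.card Q = 16 * Nat.card (phi Q)
  fpfV : ∀ a ∈ Q, y * a * y⁻¹ * a⁻¹ ∈ phi Q → a ∈ phi Q
  wV : ∃ a ∈ Q, w * a * w⁻¹ * a⁻¹ ∉ phi Q
  gen : ∀ N : Subgroup G, N.Normal → Q ≤ N → y ∈ N → N = ⊤

section

variable {G : Type*} [Group G] [Finite G]

theorem normalizes_of_conj {K : Subgroup G} {g : G} (h : ∀ k ∈ K, g * k * g⁻¹ ∈ K) :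
    g ∈ normalizer (K : Set G) := by
  rw [mem_normalizer_iff]
  have he : K.map (MulAut.conj g).toMonoidHom = K :=
    eq_of_le_of_card_ge (by rintro _ ⟨k, hk, rfl⟩; exact h k hk)
      (card_map_of_injective (MulAut.conj g).injective).ge
  refine fun k => ⟨fun hk => h k hk, fun hk => ?_⟩
  rw [← he] at hk
  obtain ⟨j, hj, hje⟩ := hk
  have : j = k := (MulAut.conj g).injective hje
  exact this ▸ hj

theorem mem_map_mk {K L : Subgroup G} [K.Normal] (hKL : K ≤ L) {a : G} :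
    (a : G ⧸ K) ∈ L.map (QuotientGroup.mk' K) ↔ a ∈ L := by
  refine ⟨fun ⟨b, hb, e⟩ => ?_, fun h => mem_map_of_mem _ h⟩
  have : b⁻¹ * a ∈ K := QuotientGroup.eq.1 e
  simpa using mul_mem hb (hKL this)

theorem card_map_mk {K L : Subgroup G} [K.Normal] (hKL : K ≤ L) :
    Nat.card (L.map (QuotientGroup.mk' K)) * Nat.card K = Nat.card L := by
  have h2 := ((QuotientGroup.mk' K).comp L.subtype).ker.card_mul_index
  rw [index_ker, MonoidHom.range_comp, range_subtype] at h2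
  have hk : ((QuotientGroup.mk' K).comp L.subtype).ker = K.subgroupOf L := by
    ext x; simp [MonoidHom.mem_ker, mem_subgroupOf, QuotientGroup.eq_one_iff]
  rw [hk, Nat.card_congr (subgroupOfEquivOfLe hKL).toEquiv] at h2
  rw [← h2, mul_comm]

variable {Q : Subgroup G} [Q.Normal] {y n w : G} (S : Setting Q y n w)
include S

theorem Setting.irr {K : Subgroup G} (hK : phi Q ≤ K) (hKQ : K ≤ Q) (hy : ∀ a ∈ K, y * a * y⁻¹ ∈ K) :
    K ≤ phi Q ∨ Q ≤ K := by
  by_cases hle : K ≤ phi Q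
  · exact Or.inl hle
  right
  set π := QuotientGroup.mk' (phi Q)
  set T := K.map π with hT
  set N := normalizer (T : Set (G ⧸ phi Q))
  have hyN : π y ∈ N := normalizes_of_conj (by
    rintro _ ⟨a, ha, rfl⟩
    exact ⟨_, hy a ha, by simp⟩)
  have h16 := sixteen_le_card (G := N) (T := T.subgroupOf N)
    ((S.two.to_le hKQ).map π |>.comap_of_injective N.subtype N.subtype_injective)
    (by
      rw [ne_eq, subgroupOf_eq_bot, disjoint_iff, inf_eq_left.2 le_normalizer, hT,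
        Subgroup.map_eq_bot_iff, QuotientGroup.ker_mk']
      exact hle)
    (y := ⟨π y, hyN⟩) (Subtype.ext (by simp [← map_pow, S.y5]))
    (by
      rintro ⟨_, _⟩ ⟨a, ha, rfl⟩ he
      have he' : π y * π a * (π y)⁻¹ = π a := congrArg Subtype.val he
      rw [← map_inv, ← map_mul, ← map_mul] at he'
      have : y * a * y⁻¹ * a⁻¹ ∈ phi Q := by
        rw [← QuotientGroup.eq_one_iff]
        show π (y * a * y⁻¹ * a⁻¹) = 1
        rw [map_mul, he', ← map_mul, mul_inv_cancel, map_one]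
      exact Subtype.ext ((QuotientGroup.eq_one_iff _).2 (S.fpfV a (hKQ ha) this)))
  rw [Nat.card_congr (subgroupOfEquivOfLe (le_normalizer (H := T))).toEquiv] at h16
  have hc := card_map_mk hK
  have hle' : Nat.card Q ≤ Nat.card K := by
    rw [S.card, ← hc]; exact Nat.mul_le_mul_right _ h16
  exact (eq_of_le_of_card_ge hKQ hle').ge

/-- `y` centralises every central elementary layer of `Φ(Q)`. -/
theorem Setting.fix_y {M : Subgroup G} (hM : Layer Q (phi Q) M) (f : G) (hf : f ∈ phi Q) :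
    y * f * y⁻¹ * f⁻¹ ∈ M := by
  haveI := hM.normal
  have hmem : ∀ t : G, y * t * y⁻¹ * t⁻¹ ∈ M ↔ (t : G ⧸ M) * y = y * t := fun t => by
    rw [← QuotientGroup.eq_one_iff, QuotientGroup.mk_mul, QuotientGroup.mk_mul, QuotientGroup.mk_mul,
      QuotientGroup.mk_inv, QuotientGroup.mk_inv, mul_inv_eq_one, mul_inv_eq_iff_eq_mul, eq_comm]
  set K : Subgroup G := phi Q ⊓ (centralizer {(y : G ⧸ M)}).comap (QuotientGroup.mk' M) with hKdef
  have hK : ∀ t, t ∈ K ↔ t ∈ phi Q ∧ y * t * y⁻¹ * t⁻¹ ∈ M := fun t => by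
    rw [hKdef, mem_inf, mem_comap, mem_centralizer_singleton_iff, hmem]; rfl
  by_contra hfK
  have hMK : M ≤ K := fun m hm => (hK m).2
    ⟨hM.le hm, mul_mem (hM.normal.conj_mem m hm y) (inv_mem hm)⟩
  have hcl : ∀ g : G, (∀ t ∈ K, g * y * g⁻¹ = y⁻¹ ∨ g * y * g⁻¹ = y) → ∀ t ∈ K, g * t * g⁻¹ ∈ K := by
    intro g hg t ht
    obtain ⟨htP, htM⟩ := (hK t).1 ht
    refine (hK _).2 ⟨(phi_normal Q).conj_mem t htP g, (hmem _).2 ?_⟩
    have hc : Commute (t : G ⧸ M) (y : G ⧸ M) := (hmem t).1 htM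
    have h1 : Commute ((g : G ⧸ M) * t * (g : G ⧸ M)⁻¹) ((g : G ⧸ M) * y * (g : G ⧸ M)⁻¹) := by
      show _ = _
      rw [show (g : G ⧸ M) * t * (g : G ⧸ M)⁻¹ * ((g : G ⧸ M) * y * (g : G ⧸ M)⁻¹) =
        (g : G ⧸ M) * (t * y) * (g : G ⧸ M)⁻¹ by group, hc.eq]
      group
    rw [← QuotientGroup.mk_inv, ← QuotientGroup.mk_mul, ← QuotientGroup.mk_mul, ← QuotientGroup.mk_mul,
      ← QuotientGroup.mk_mul] at h1
    rcases hg t ht with h | h
    · rw [h, QuotientGroup.mk_inv] at h1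
      exact (Commute.inv_right_iff.1 h1).eq
    · rw [h] at h1
      exact h1.eq
  have hyN : y ∈ normalizer (K : Set G) :=
    normalizes_of_conj (hcl y fun _ _ => Or.inr (by group))
  have hnN : n ∈ normalizer (K : Set G) := normalizes_of_conj (hcl n fun _ _ => Or.inl S.inv)
  have hQN : Q ≤ normalizer (K : Set G) := fun a ha => normalizes_of_conj fun t ht => by
    have h := hM.comm t ((hK t).1 ht).1 a ha
    have : a * t * a⁻¹ = (t * a * t⁻¹ * a⁻¹)⁻¹ * t := by group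
    rw [this]
    exact mul_mem (inv_mem (hMK h)) ht
  set G₁ := normalizer (K : Set G)
  set π := QuotientGroup.mk' (K.subgroupOf G₁) with hπ
  have hKQ : K ≤ Q := fun t ht => phi_le Q ((hK t).1 ht).1
  have hKphi : K ≤ phi Q := fun t ht => ((hK t).1 ht).1
  set Q' := (Q.subgroupOf G₁).map π
  set F' := ((phi Q).subgroupOf G₁).map π
  haveI : Q'.Normal := Normal.map inferInstance π (QuotientGroup.mk'_surjective _)
  haveI : F'.Normal := Normal.map inferInstance π (QuotientGroup.mk'_surjective _)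
  have hsub : ∀ {L : Subgroup G}, K ≤ L → K.subgroupOf G₁ ≤ L.subgroupOf G₁ := fun h => comap_mono h
  have hmemF : ∀ a : G₁, π a ∈ F' ↔ (a : G) ∈ phi Q := fun a => mem_map_mk (hsub hKphi)
  have hmemQ : ∀ a : G₁, π a ∈ Q' ↔ (a : G) ∈ Q := fun a => mem_map_mk (hsub hKQ)
  have hzero : ∀ a : G₁, (a : G) ∈ K → π a = 1 := fun a ha => (QuotientGroup.eq_one_iff _).2 ha
  have hcF : Nat.card F' * Nat.card K = Nat.card (phi Q) := by
    have := card_map_mk (G := G₁) (hsub hKphi)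
    rwa [Nat.card_congr (subgroupOfEquivOfLe (le_normalizer (H := K))).toEquiv,
      Nat.card_congr (subgroupOfEquivOfLe ((phi_le Q).trans hQN)).toEquiv] at this
  have hcQ : Nat.card Q' * Nat.card K = Nat.card Q := by
    have := card_map_mk (G := G₁) (hsub hKQ)
    rwa [Nat.card_congr (subgroupOfEquivOfLe (le_normalizer (H := K))).toEquiv,
      Nat.card_congr (subgroupOfEquivOfLe hQN).toEquiv] at this
  refine false_of_free ((S.sect.subgroup G₁).of_surjective π (QuotientGroup.mk'_surjective _)) Q' F'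
    ((S.two.comap_of_injective G₁.subtype G₁.subtype_injective).map π)
    (map_mono (comap_mono (phi_le Q))) (π ⟨y, hyN⟩) (π ⟨n, hnN⟩) ?_ ?_ ?_ ?_ ?_ ?_ ?_ ?_ ?_ ?_ ?_ ?_
  · rw [← map_pow, show (⟨y, hyN⟩ : G₁) ^ 5 = 1 from Subtype.ext S.y5, map_one]
  · rw [← map_inv, ← map_inv, ← map_mul, ← map_mul]
    exact congrArg π (Subtype.ext S.inv)
  · exact fun h => S.n_notin ((hmemQ _).1 h)
  · rw [← map_mul]; exact (hmemQ _).2 S.nn
  · rintro _ ⟨a, ha, rfl⟩ _ ⟨b, hb, rfl⟩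
    rw [← map_inv, ← map_inv, ← map_mul, ← map_mul, ← map_mul]
    exact (hmemF _).2 (comm_mem_phi S.two ha hb)
  · rintro _ ⟨a, ha, rfl⟩
    rw [← map_mul]; exact (hmemF _).2 (sq_mem_phi S.two ha)
  · rintro _ ⟨a, ha, rfl⟩
    rw [← map_mul]; exact hzero _ (hMK (hM.sq _ ha))
  · rintro _ ⟨a, ha, rfl⟩ _ ⟨b, hb, rfl⟩
    rw [← mul_inv_eq_one, mul_inv_rev, ← mul_assoc, ← map_inv, ← map_inv, ← map_mul, ← map_mul, ← map_mul]
    exact hzero _ (hMK (hM.comm _ ha _ hb))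
  · intro h
    refine hfK ((hK f).1 ?_).2
    have h' : π ⟨f, hQN (phi_le Q hf)⟩ ∈ F' := (hmemF _).2 hf
    rw [h, mem_bot] at h'
    exact (QuotientGroup.eq_one_iff (N := K.subgroupOf G₁) ⟨f, hQN (phi_le Q hf)⟩).1 h'
  · rintro _ ⟨a, ha, rfl⟩ h
    rw [← map_inv, ← map_inv, ← map_mul, ← map_mul, ← map_mul, hmemF] at h
    exact (hmemF _).2 (S.fpfV _ ha h)
  · rintro _ ⟨a, ha, rfl⟩ h
    rw [← map_inv, ← map_mul, ← map_mul, ← mul_inv_eq_one, ← map_inv, ← map_mul] at h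
    have hg : y * (a : G) * y⁻¹ * (a : G)⁻¹ ∈ K :=
      (QuotientGroup.eq_one_iff (N := K.subgroupOf G₁)
        ((⟨y, hyN⟩ : G₁) * a * (⟨y, hyN⟩ : G₁)⁻¹ * a⁻¹)).1 h
    refine hzero _ ((hK _).2 ⟨ha, ?_⟩)
    obtain ⟨hgP, hgM⟩ := (hK _).1 hg
    set g := y * (a : G) * y⁻¹ * (a : G)⁻¹ with hgdef
    have hgy : Commute (g : G ⧸ M) (y : G ⧸ M) := (hmem g).1 hgM
    have e1 : (y : G ⧸ M) * (a : G) * (y : G ⧸ M)⁻¹ = (g : G ⧸ M) * (a : G) := by
      rw [← QuotientGroup.mk_inv, ← QuotientGroup.mk_mul, ← QuotientGroup.mk_mul, ← QuotientGroup.mk_mul]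
      congr 1
      rw [hgdef]; group
    have e2 : ∀ i : ℕ, (y : G ⧸ M) ^ i * (a : G) * ((y : G ⧸ M) ^ i)⁻¹ = (g : G ⧸ M) ^ i * (a : G) := by
      intro i
      induction i with
      | zero => simp
      | succ i ih =>
        calc (y : G ⧸ M) ^ (i + 1) * (a : G) * ((y : G ⧸ M) ^ (i + 1))⁻¹
            = (y : G ⧸ M) * ((y : G ⧸ M) ^ i * (a : G) * ((y : G ⧸ M) ^ i)⁻¹) * (y : G ⧸ M)⁻¹ := by
              rw [pow_succ' (y : G ⧸ M)]; group
          _ = ((y : G ⧸ M) * (g : G ⧸ M) ^ i * (y : G ⧸ M)⁻¹) * ((y : G ⧸ M) * (a : G) * (y : G ⧸ M)⁻¹) := by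
              rw [ih]; group
          _ = (g : G ⧸ M) ^ (i + 1) * (a : G) := by
              rw [← (hgy.pow_left i).eq, mul_inv_cancel_right, e1, ← mul_assoc, pow_succ]
    have h5 := e2 5
    rw [← QuotientGroup.mk_pow, S.y5, QuotientGroup.mk_one, inv_one, mul_one, one_mul, eq_comm,
      mul_eq_right] at h5
    have hg2 : (g : G ⧸ M) * g = 1 := hM.mk_sq hgP
    have hg1 : (g : G ⧸ M) = 1 := by
      calc (g : G ⧸ M) = (g : G ⧸ M) ^ 5 * ((g * g : G ⧸ M))⁻¹ * ((g * g : G ⧸ M))⁻¹ := by group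
        _ = 1 := by rw [h5, hg2]; group
    exact (QuotientGroup.eq_one_iff _).1 hg1
  · refine Nat.le_of_mul_le_mul_right ?_ (Nat.card_pos (α := K))
    rw [mul_assoc, hcF, hcQ, S.card]

/-- All of `G` centralises a central elementary layer of `Φ(Q)`. -/
theorem Setting.fix_all {M : Subgroup G} (hM : Layer Q (phi Q) M) (g f : G) (hf : f ∈ phi Q) :
    g * f * g⁻¹ * f⁻¹ ∈ M := by
  haveI := hM.normal
  set π := QuotientGroup.mk' M
  haveI : ((phi Q).map π).Normal := Normal.map inferInstance π (QuotientGroup.mk'_surjective M)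
  set N := (centralizer ((phi Q).map π : Set (G ⧸ M))).comap π with hN
  have key : ∀ a : G, a ∈ N ↔ ∀ t ∈ phi Q, a * t * a⁻¹ * t⁻¹ ∈ M := fun a => by
    rw [hN, mem_comap, mem_centralizer_iff]
    constructor
    · intro h t ht
      rw [← QuotientGroup.eq_one_iff, QuotientGroup.mk_mul, QuotientGroup.mk_mul, QuotientGroup.mk_mul,
        QuotientGroup.mk_inv, QuotientGroup.mk_inv, mul_inv_eq_one, mul_inv_eq_iff_eq_mul]
      exact (h _ (mem_map_of_mem π ht)).symm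
    · rintro h _ ⟨t, ht, rfl⟩
      have := h t ht
      rw [← QuotientGroup.eq_one_iff, QuotientGroup.mk_mul, QuotientGroup.mk_mul, QuotientGroup.mk_mul,
        QuotientGroup.mk_inv, QuotientGroup.mk_inv, mul_inv_eq_one, mul_inv_eq_iff_eq_mul] at this
      exact this.symm
  have htop := S.gen N inferInstance (fun a ha => (key a).2 fun t ht => by
      have := hM.comm t ht a ha
      have he : a * t * a⁻¹ * t⁻¹ = (t * a * t⁻¹ * a⁻¹)⁻¹ := by group
      rw [he]; exact inv_mem this)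
    ((key y).2 fun t ht => S.fix_y hM t ht)
  exact (key g).1 (htop ▸ mem_top g) f hf

end

end Cfsg.Agent.RankFourRadical
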