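import Cfsg.Prelude.Def_CaseTheorems
import Mathlib

/-!
# A section of rank five above a free layer

`false_of_free`: let `Q ⊇ F` be normal 2-subgroups, `Q / F` elementary of order at least 16, `F`
elementary, central in `Q` and nontrivial, and let `y` of order 5 act without fixed points on both, inverted
by `n ∉ Q` with `n² ∈ Q`. Then some section of the group is elementary of order 32.
-/

set_option autoImplicit false

namespace Cfsg.Agent.RankFourRadical

open Subgroup

/-- No section of order more than 16 has exponent 2. -/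
def Sect4 (G : Type*) [Group G] : Prop :=
  ∀ H N : Subgroup G, N ≤ H → (∀ x ∈ H, ∀ r ∈ N, x * r * x⁻¹ ∈ N) → (∀ x ∈ H, x * x ∈ N) →
    Nat.card H ≤ 16 * Nat.card N

section

variable {G : Type*} [Group G] [Finite G]

theorem sect4_of_sectional (h4 : Cfsg.SectionalPRankLE 2 4 G) : Sect4 G := by
  intro H N hNH hnorm hsq
  haveI : (N.subgroupOf H).Normal := ⟨fun r hr h => hnorm _ h.2 _ hr⟩
  have hexp : ∀ a : H ⧸ N.subgroupOf H, a * a = 1 := fun a => by
    obtain ⟨h, rfl⟩ := QuotientGroup.mk_surjective a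
    rw [← QuotientGroup.mk_mul, QuotientGroup.eq_one_iff]
    exact hsq _ h.2
  have hle := h4 H (N.subgroupOf H) ⊤ ⟨⟨fun a b => Subtype.ext ?_⟩⟩
    (fun a _ => by rw [pow_two]; exact hexp a)
  swap
  · have h := hexp ((a : H ⧸ N.subgroupOf H) * b)
    have hi : ∀ c : H ⧸ N.subgroupOf H, c⁻¹ = c := fun c => inv_eq_of_mul_eq_one_right (hexp c)
    show (a : H ⧸ N.subgroupOf H) * b = b * a
    rw [← hi ((a : H ⧸ N.subgroupOf H) * b), mul_inv_rev, hi, hi]
  rw [card_top, ← index_eq_card] at hle
  have := (N.subgroupOf H).card_mul_index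
  rw [Nat.card_congr (subgroupOfEquivOfLe hNH).toEquiv] at this
  rw [← this, mul_comm 16]
  exact Nat.mul_le_mul_left _ (by simpa using hle)

theorem Sect4.subgroup (h4 : Sect4 G) (K : Subgroup G) : Sect4 K := by
  intro H N hNH hnorm hsq
  have := h4 (H.map K.subtype) (N.map K.subtype) (map_mono hNH)
    (by rintro _ ⟨x, hx, rfl⟩ _ ⟨r, hr, rfl⟩; exact ⟨_, hnorm x hx r hr, by simp⟩)
    (by rintro _ ⟨x, hx, rfl⟩; exact ⟨_, hsq x hx, by simp⟩)
  rwa [card_map_of_injective K.subtype_injective, card_map_of_injective K.subtype_injective] at this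

theorem Sect4.of_surjective {G' : Type*} [Group G'] (h4 : Sect4 G) (f : G →* G')
    (hf : Function.Surjective f) : Sect4 G' := by
  intro H N hNH hnorm hsq
  have hle := h4 (H.comap f) (N.comap f) (comap_mono hNH)
    (fun x hx r hr => by
      show f (x * r * x⁻¹) ∈ N
      rw [map_mul, map_mul, map_inv]; exact hnorm _ hx _ hr)
    (fun x hx => by show f (x * x) ∈ N; rw [map_mul]; exact hsq _ hx)
  have hc : ∀ L : Subgroup G', Nat.card (L.comap f) = Nat.card f.ker * Nat.card L := fun L => by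
    have h1 := (f.comp (L.comap f).subtype).ker.card_mul_index
    rw [index_ker, MonoidHom.range_comp, range_subtype, map_comap_eq_self_of_surjective hf] at h1
    have hk : (f.comp (L.comap f).subtype).ker = f.ker.subgroupOf (L.comap f) := by
      ext x; simp [MonoidHom.mem_ker, mem_subgroupOf]
    rw [hk, Nat.card_congr (subgroupOfEquivOfLe (fun x hx => by
      show f x ∈ L
      rw [MonoidHom.mem_ker.1 hx]; exact one_mem L : f.ker ≤ L.comap f)).toEquiv] at h1
    exact h1.symm
  rw [hc, hc] at hle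
  exact Nat.le_of_mul_le_mul_left (hle.trans_eq (by ring)) Nat.card_pos

/-- A nontrivial 2-group with an automorphism of order 5 without fixed points has order at least 16. -/
theorem sixteen_le_card {T : Subgroup G} [T.Normal] (hT : IsPGroup 2 T) (hne : T ≠ ⊥) {y : G}
    (hy : y ^ 5 = 1) (hfix : ∀ t ∈ T, y * t * y⁻¹ = t → t = 1) : 16 ≤ Nat.card T := by
  haveI : Fact (Nat.Prime 5) := ⟨by norm_num⟩
  letI : MulAction (zpowers y) T :=
    MulAction.compHom T ((MulAut.conjNormal (H := T)).comp (zpowers y).subtype)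
  have hp : IsPGroup 5 (zpowers y) := by
    intro g
    obtain ⟨k, hk⟩ := mem_zpowers_iff.1 g.2
    refine ⟨1, Subtype.ext ?_⟩
    show (g : G) ^ (5 ^ 1) = 1
    rw [← hk, pow_one, ← zpow_natCast, ← zpow_mul, mul_comm, zpow_mul, zpow_natCast, hy, one_zpow]
  have hmod := hp.card_modEq_card_fixedPoints T
  have hfp : Nat.card (MulAction.fixedPoints (zpowers y) T) = 1 := by
    rw [Nat.card_eq_one_iff_unique]
    refine ⟨⟨fun a b => ?_⟩, ⟨⟨1, fun g => map_one (MulAut.conjNormal (H := T) (g : G))⟩⟩⟩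
    have h1 : ∀ c : MulAction.fixedPoints (zpowers y) T, (c : T) = 1 := fun c =>
      Subtype.ext (hfix _ (c : T).2 (congrArg Subtype.val (c.2 ⟨y, mem_zpowers y⟩)))
    exact Subtype.ext ((h1 a).trans (h1 b).symm)
  rw [hfp] at hmod
  obtain ⟨k, hk⟩ := IsPGroup.iff_card.1 hT
  have h1 : 1 < Nat.card T := (one_lt_card_iff_ne_bot T).2 hne
  rw [hk] at hmod h1 ⊢
  by_contra hlt
  have hk4 : k < 4 := by
    by_contra h
    exact hlt (le_trans (by norm_num) (Nat.pow_le_pow_right (show 0 < 2 by norm_num) (not_lt.1 h)))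
  interval_cases k <;> simp [Nat.ModEq] at hmod h1

/-- The rank five section. -/
theorem false_of_free (h4 : Sect4 G) (Q F : Subgroup G) [Q.Normal] [F.Normal]
    (hQ : IsPGroup 2 Q) (hFQ : F ≤ Q) (y n : G) (hy : y ^ 5 = 1) (hny : n * y * n⁻¹ = y⁻¹)
    (hnQ : n ∉ Q) (hn2 : n * n ∈ Q)
    (hcom : ∀ a ∈ Q, ∀ b ∈ Q, a * b * a⁻¹ * b⁻¹ ∈ F) (hsq : ∀ a ∈ Q, a * a ∈ F)
    (hF2 : ∀ f ∈ F, f * f = 1) (hFc : ∀ f ∈ F, ∀ a ∈ Q, f * a = a * f) (hne : F ≠ ⊥)
    (hfV : ∀ a ∈ Q, y * a * y⁻¹ * a⁻¹ ∈ F → a ∈ F) (hfF : ∀ f ∈ F, y * f * y⁻¹ = f → f = 1)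
    (hV : 16 * Nat.card F ≤ Nat.card Q) : False := by
  have hF16 := sixteen_le_card (hQ.to_le hFQ) hne hy hfF
  have hFinv : ∀ f ∈ F, f⁻¹ = f := fun f hf => inv_eq_of_mul_eq_one_right (hF2 f hf)
  -- `n` is an involution
  have hnn : n * n = 1 := by
    have hc : y * (n * n) * y⁻¹ = n * n := by
      have h1 : n * n * y * (n * n)⁻¹ = y := by
        calc n * n * y * (n * n)⁻¹ = n * (n * y * n⁻¹) * n⁻¹ := by group
          _ = n * y⁻¹ * n⁻¹ := by rw [hny]
          _ = (n * y * n⁻¹)⁻¹ := by group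
          _ = y := by rw [hny, inv_inv]
      calc y * (n * n) * y⁻¹ = (n * n * y * (n * n)⁻¹) * (n * n) * y⁻¹ := by rw [h1]
        _ = n * n := by group
    exact hfF _ (hfV _ hn2 (by rw [hc]; simp)) hc
  have hni : n⁻¹ = n := inv_eq_of_mul_eq_one_right hnn
  rw [hni] at hny
  set S : Subgroup G := Q ⊓ (centralizer {(n : G ⧸ F)}).comap (QuotientGroup.mk' F) with hSdef
  have hS : ∀ x, x ∈ S ↔ x ∈ Q ∧ n * x * n * x⁻¹ ∈ F := fun x => by
    rw [hSdef, mem_inf, mem_comap, mem_centralizer_singleton_iff]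
    refine and_congr_right fun _ => ?_
    rw [← QuotientGroup.eq_one_iff (N := F) (n * x * n * x⁻¹)]
    rw [QuotientGroup.mk'_apply, QuotientGroup.mk_mul, QuotientGroup.mk_mul, QuotientGroup.mk_mul,
      QuotientGroup.mk_inv, mul_inv_eq_one]
    have hn' : (n : G ⧸ F) * (n : G ⧸ F) = 1 := by rw [← QuotientGroup.mk_mul, hnn, QuotientGroup.mk_one]
    constructor
    · intro h; rw [mul_assoc (n : G ⧸ F), h, ← mul_assoc, hn', one_mul]
    · intro h
      calc (x : G ⧸ F) * n = (n : G ⧸ F) * x * n * n := by rw [h]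
        _ = n * x := by rw [mul_assoc ((n : G ⧸ F) * x), hn', mul_one]
  have hnQn : ∀ a ∈ Q, n * a * n ∈ Q := fun a ha => by
    have := (inferInstance : Q.Normal).conj_mem a ha n
    rwa [hni] at this
  have hnFn : ∀ f ∈ F, n * f * n ∈ F := fun f hf => by
    have := (inferInstance : F.Normal).conj_mem f hf n
    rwa [hni] at this
  have hFS : F ≤ S := fun f hf => (hS f).2 ⟨hFQ hf, mul_mem (hnFn f hf) (inv_mem hf)⟩
  have hnS : ∀ s ∈ S, n * s * n ∈ S := fun s hs => by
    have : n * s * n = (n * s * n * s⁻¹) * s := by group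
    rw [this]
    exact mul_mem (hFS ((hS s).1 hs).2) hs
  set R : Subgroup G := F ⊓ centralizer {n} with hRdef
  have hR : ∀ x, x ∈ R ↔ x ∈ F ∧ n * x * n = x := fun x => by
    rw [hRdef, mem_inf, mem_centralizer_singleton_iff]
    refine and_congr_right fun _ => ⟨fun h => by rw [← h, mul_assoc, hnn, mul_one], fun h => ?_⟩
    calc x * n = n * x * n * n := by rw [h]
      _ = n * x := by rw [mul_assoc (n * x), hnn, mul_one]
  have hnnx : ∀ x : G, n * (n * x) = x := fun x => by rw [← mul_assoc, hnn, one_mul]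
  have ht : ∀ s ∈ S, n * s * n * s⁻¹ ∈ R := fun s hs => by
    have hF' := ((hS s).1 hs).2
    refine (hR _).2 ⟨hF', ?_⟩
    have h1 : n * (n * s * n * s⁻¹) * n = (n * s * n * s⁻¹)⁻¹ := by
      rw [mul_inv_rev, mul_inv_rev, mul_inv_rev, inv_inv, hni]
      simp only [mul_assoc, hnnx]
    rw [h1, hFinv _ hF']
  have hss : ∀ s ∈ S, s * s ∈ R := fun s hs => by
    refine (hR _).2 ⟨hsq s ((hS s).1 hs).1, ?_⟩
    set t := n * s * n * s⁻¹ with htdef
    have htF : t ∈ F := ((hS s).1 hs).2
    have e : n * s * n = t * s := by rw [htdef]; group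
    calc n * (s * s) * n = (n * s * n) * (n * s * n) := by simp only [mul_assoc, hnnx]
      _ = t * (s * t) * s := by rw [e]; group
      _ = s * s := by rw [← hFc t htF s ((hS s).1 hs).1, ← mul_assoc t t, hF2 t htF, one_mul]
  let H : Subgroup G :=
    { carrier := {h | h ∈ S ∨ h * n ∈ S}
      one_mem' := Or.inl (one_mem S)
      mul_mem' := by
        intro a b ha hb
        rcases ha with ha | ha <;> rcases hb with hb | hb
        · exact Or.inl (mul_mem ha hb)
        · exact Or.inr (by rw [mul_assoc]; exact mul_mem ha hb)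
        · refine Or.inr ?_
          have : a * b * n = (a * n) * (n * b * n) := by simp only [mul_assoc, hnnx]
          rw [this]; exact mul_mem ha (hnS b hb)
        · refine Or.inl ?_
          have : a * b = (a * n) * (n * (b * n) * n) := by simp only [mul_assoc, hnnx, hnn, mul_one]
          rw [this]; exact mul_mem ha (hnS _ hb)
      inv_mem' := by
        intro a ha
        rcases ha with ha | ha
        · exact Or.inl (inv_mem ha)
        · refine Or.inr ?_
          have : a⁻¹ * n = n * (a * n)⁻¹ * n := by rw [mul_inv_rev, hni, hnnx]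
          rw [this]; exact hnS _ (inv_mem ha) }
  have hsqH : ∀ h ∈ H, h * h ∈ R := by
    rintro h (hh | hh)
    · exact hss h hh
    · set s := h * n with hsdef
      have he : h = s * n := by rw [hsdef, mul_assoc, hnn, mul_one]
      have hsQ := ((hS s).1 hh).1
      have htF : n * s * n * s⁻¹ ∈ F := ((hS s).1 hh).2
      have : h * h = (n * s * n * s⁻¹) * (s * s) := by
        calc h * h = s * (n * s * n * s⁻¹) * s := by rw [he]; group
          _ = (n * s * n * s⁻¹) * s * s := by rw [hFc _ htF s hsQ]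
          _ = _ := by rw [mul_assoc]
      rw [this]
      exact mul_mem (ht s hh) (hss s hh)
  have hcomm : ∀ h ∈ H, ∀ r ∈ R, h * r * h⁻¹ = r := by
    intro h hh r hr
    obtain ⟨hrF, hrn⟩ := (hR r).1 hr
    have hc : ∀ s ∈ S, s * r * s⁻¹ = r := fun s hs => by
      rw [← hFc r hrF s ((hS s).1 hs).1, mul_inv_cancel_right]
    rcases hh with hh | hh
    · exact hc h hh
    · calc h * r * h⁻¹ = (h * n) * (n * r * n) * (h * n)⁻¹ := by
            rw [mul_inv_rev, hni]; simp only [mul_assoc, hnnx]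
        _ = r := by rw [hrn, hc _ hh]
  have hRH : R ≤ H := fun r hr => Or.inl (hFS ((hR r).1 hr).1)
  have hle := h4 H R hRH (fun h hh r hr => by rw [hcomm h hh r hr]; exact hr) hsqH
  -- orders
  have hH : 2 * Nat.card S ≤ Nat.card H := by
    have := Nat.card_le_card_of_injective (α := Bool × S)
      (β := H) (fun p => if p.1 then ⟨(p.2 : G) * n, Or.inr (by rw [mul_assoc, hnn, mul_one]; exact p.2.2)⟩
        else ⟨p.2, Or.inl p.2.2⟩) (by
        rintro ⟨b, s⟩ ⟨b', s'⟩ he
        have hout : ∀ u v : S, (u : G) * n ≠ v := fun u v e => hnQ (by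
          have : n = (u : G)⁻¹ * v := by rw [← e]; group
          rw [this]; exact mul_mem (inv_mem ((hS _).1 u.2).1) ((hS _).1 v.2).1)
        cases b <;> cases b' <;>
          simp only [↓reduceIte, Bool.false_eq_true, Subtype.mk.injEq] at he
        · exact Prod.ext rfl (Subtype.ext he)
        · exact absurd he.symm (hout _ _)
        · exact absurd he (hout _ _)
        · exact Prod.ext rfl (Subtype.ext (mul_right_cancel he)))
    rwa [Nat.card_prod, Nat.card_eq_fintype_card (α := Bool), Fintype.card_bool] at this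
  have hSlow : Nat.card Q * Nat.card F ≤ Nat.card S * Nat.card S := by
    let m := QuotientGroup.mk' F
    let d : Q →* G ⧸ F :=
      { toFun := fun x => m (n * x * n * (x : G)⁻¹)
        map_one' := by
          show m (n * 1 * n * 1⁻¹) = 1
          rw [mul_one, hnn, inv_one, mul_one, map_one]
        map_mul' := fun a b => by
          have hb : n * (b : G) * n * (b : G)⁻¹ ∈ Q :=
            mul_mem (hnQn _ b.2) (inv_mem b.2)
          have h1 : m (((a : G) * (n * b * n * (b : G)⁻¹) * (a : G)⁻¹)) = m (n * b * n * (b : G)⁻¹) := by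
            rw [← mul_inv_eq_one, ← map_inv, ← map_mul]
            exact (QuotientGroup.eq_one_iff _).2 (hcom _ a.2 _ hb)
          rw [← h1, ← map_mul, Subgroup.coe_mul]
          congr 1
          rw [mul_inv_rev]
          simp only [mul_assoc, inv_mul_cancel_left, hnnx] }
    have hker : d.ker = S.subgroupOf Q := by
      ext x
      rw [MonoidHom.mem_ker, mem_subgroupOf, hS]
      show m _ = 1 ↔ _
      rw [show m (n * x * n * (x : G)⁻¹) = ((n * x * n * (x : G)⁻¹ : G) : G ⧸ F) from rfl,
        QuotientGroup.eq_one_iff]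
      exact ⟨fun h => ⟨x.2, h⟩, And.right⟩
    have hrange : d.range ≤ S.map m := by
      rintro _ ⟨x, rfl⟩
      refine ⟨n * x * n * (x : G)⁻¹, (hS _).2 ⟨mul_mem (hnQn _ x.2) (inv_mem x.2), ?_⟩, rfl⟩
      set c := n * (x : G) * n * (x : G)⁻¹ with hc
      have hcQ : c ∈ Q := mul_mem (hnQn _ x.2) (inv_mem x.2)
      have : n * c * n * c⁻¹ = (c * c)⁻¹ := by
        have e : n * c * n = c⁻¹ := by
          rw [hc, mul_inv_rev, mul_inv_rev, mul_inv_rev, inv_inv, hni]; simp only [mul_assoc, hnnx]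
        rw [e]; exact (mul_inv_rev c c).symm
      rw [this]; exact inv_mem (hsq c hcQ)
    have h1 := d.ker.card_mul_index
    rw [index_ker, hker] at h1
    rw [Nat.card_congr (subgroupOfEquivOfLe (fun x hx => ((hS x).1 hx).1 : S ≤ Q)).toEquiv] at h1
    have h2 := (m.comp S.subtype).ker.card_mul_index
    rw [index_ker, MonoidHom.range_comp, range_subtype] at h2
    have hk : (m.comp S.subtype).ker = F.subgroupOf S := by
      ext x; simp [m, MonoidHom.mem_ker, mem_subgroupOf, QuotientGroup.eq_one_iff]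
    rw [hk, Nat.card_congr (subgroupOfEquivOfLe hFS).toEquiv] at h2
    have h3 := card_le_of_le hrange
    calc Nat.card Q * Nat.card F = Nat.card S * Nat.card d.range * Nat.card F := by rw [h1]
      _ ≤ Nat.card S * Nat.card (S.map m) * Nat.card F :=
          Nat.mul_le_mul_right _ (Nat.mul_le_mul_left _ h3)
      _ = Nat.card S * Nat.card S := by rw [mul_assoc, mul_comm (Nat.card (S.map m)), h2]
  have hRhigh : Nat.card R * Nat.card R ≤ Nat.card F := by
    rw [← Nat.card_prod]
    refine Nat.card_le_card_of_injective (fun p : R × R => (⟨(p.1 : G) * (y * p.2 * y⁻¹),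
      mul_mem ((hR _).1 p.1.2).1 ((inferInstance : F.Normal).conj_mem _ ((hR _).1 p.2.2).1 y)⟩ : F)) ?_
    rintro ⟨a, b⟩ ⟨a', b'⟩ he
    have he' : (a : G) * (y * b * y⁻¹) = a' * (y * b' * y⁻¹) := congrArg Subtype.val he
    set c : G := y * ((b : G) * (b' : G)⁻¹) * y⁻¹ with hc
    have hca : c = (a : G)⁻¹ * a' := by
      calc c = (a : G)⁻¹ * ((a : G) * (y * b * y⁻¹)) * (y * b' * y⁻¹)⁻¹ := by rw [hc]; group
        _ = (a : G)⁻¹ * a' := by rw [he']; group
    obtain ⟨hcF, hcn⟩ := (hR c).1 (hca ▸ mul_mem (inv_mem a.2) a'.2)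
    obtain ⟨-, hbn⟩ := (hR _).1 (mul_mem b.2 (inv_mem b'.2))
    have hcn' : n * c = c * n := by
      calc n * c = n * c * n * n := by rw [mul_assoc (n * c), hnn, mul_one]
        _ = c * n := by rw [hcn]
    have hbn' : n * ((b : G) * (b' : G)⁻¹) = ((b : G) * (b' : G)⁻¹) * n := by
      calc n * ((b : G) * (b' : G)⁻¹) = n * ((b : G) * (b' : G)⁻¹) * n * n := by
            rw [mul_assoc (n * _), hnn, mul_one]
        _ = _ := by rw [hbn]
    have k1 : Commute (y * n * y⁻¹) c := by
      show _ = _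
      rw [hc]
      calc y * n * y⁻¹ * (y * ((b : G) * (b' : G)⁻¹) * y⁻¹)
          = y * (n * ((b : G) * (b' : G)⁻¹)) * y⁻¹ := by group
        _ = _ := by rw [hbn']; group
    have k2 : Commute n c := hcn'
    have hy2 : y * n * y⁻¹ * n = y ^ 2 := by
      have : n * y⁻¹ * n = y := by
        calc n * y⁻¹ * n = n * (n * y * n) * n := by rw [hny]
          _ = y := by simp only [mul_assoc, hnnx, hnn, mul_one]
      calc y * n * y⁻¹ * n = y * (n * y⁻¹ * n) := by group
        _ = y ^ 2 := by rw [this, pow_two]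
    have k3 : Commute (y ^ 2) c := hy2 ▸ k1.mul_left k2
    have k4 : Commute y c := by
      have := k3.pow_left 3
      rwa [← pow_mul, show 2 * 3 = 5 + 1 by norm_num, pow_succ, hy, one_mul] at this
    have hc1 : c = 1 := hfF c hcF (by rw [k4.eq, mul_inv_cancel_right])
    have hb : b = b' := Subtype.ext (by
      have : (b : G) * (b' : G)⁻¹ = y⁻¹ * c * y := by rw [hc]; group
      rw [hc1, mul_one, inv_mul_cancel] at this
      exact mul_inv_eq_one.1 this)
    subst hb
    exact Prod.ext (Subtype.ext (mul_right_cancel he')) rfl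
  have hRpos : 0 < Nat.card R := Nat.card_pos
  have hFR : 4 * Nat.card R ≤ Nat.card F := by
    by_contra h
    push Not at h
    nlinarith
  have hSF : 4 * Nat.card F ≤ Nat.card S := by
    by_contra h
    push Not at h
    nlinarith
  omega

end

end Cfsg.Agent.RankFourRadical
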