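import Cfsg.Agent.Lib.RankFourRadical.Squares

/-!
# `|Φ(Q)| ≤ 2`
-/

set_option autoImplicit false

namespace Cfsg.Agent.RankFourRadical

open Subgroup

section

variable {G : Type*} [Group G] [Finite G] {Q : Subgroup G} [Q.Normal] {y n w : G}
  (S : Setting Q y n w)
include S

theorem Setting.card_phi_le : Nat.card (phi Q) ≤ 2 := by
  by_cases hne : phi Q = ⊥
  · rw [hne, card_bot]; omega
  obtain ⟨hM, hlt⟩ := layer_minLayer S.two (phi_le Q) hne
  set M := minLayer Q (phi Q) with hMdef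
  haveI := hM.normal
  have hle2 := S.layer_le_two hM
  have hidx : (M.subgroupOf (phi Q)).index = 2 := by
    have h1 := (M.subgroupOf (phi Q)).card_mul_index
    rw [Nat.card_congr (subgroupOfEquivOfLe hlt.le).toEquiv] at h1
    have h2 : (M.subgroupOf (phi Q)).index ≤ 2 := by
      refine Nat.le_of_mul_le_mul_left ?_ (Nat.card_pos (α := M))
      rw [h1, mul_comm]; exact hle2
    have h3 : (M.subgroupOf (phi Q)).index ≠ 1 := fun h => by
      rw [index_eq_one, subgroupOf_eq_top] at h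
      exact hlt.not_ge h
    have h4 := Subgroup.index_ne_zero_of_finite (H := M.subgroupOf (phi Q))
    omega
  have hdec : ∀ z ∈ phi Q, z ∉ M → ∀ f ∈ phi Q, f ∈ M ∨ f * z ∈ M := by
    intro z hz hzM f hf
    by_cases h : f ∈ M
    · exact Or.inl h
    · exact Or.inr ((mul_mem_iff_of_index_two hidx (a := ⟨f, hf⟩) (b := ⟨z, hz⟩)).2
        ⟨fun h' => absurd h' h, fun h' => absurd h' hzM⟩)
  have hcard2 : Nat.card (phi Q) ≤ 2 * Nat.card M := hle2
  by_cases hM0 : M = ⊥
  · rw [hM0, card_bot] at hcard2; omega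
  exfalso
  obtain ⟨hN, hlt2⟩ := layer_minLayer S.two (hM.le.trans (phi_le Q)) hM0
  set N := minLayer Q M
  haveI := hN.normal
  set π := QuotientGroup.mk' M
  set ρ := QuotientGroup.mk' N
  have hcommM : ∀ t ∈ phi Q, ∀ g : G, π g * π t = π t * π g := fun t ht g => by
    rw [← mul_inv_eq_one, mul_inv_rev, ← mul_assoc, ← map_inv, ← map_inv, ← map_mul, ← map_mul, ← map_mul]
    exact (QuotientGroup.eq_one_iff _).2 (S.fix_all hM g t ht)
  -- a commutator outside `M`
  obtain ⟨a, ha, b, hb, hab⟩ : ∃ a ∈ Q, ∃ b ∈ Q, a * b * a⁻¹ * b⁻¹ ∉ M := by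
    by_contra hcon
    push Not at hcon
    let d : Q →* G ⧸ M :=
      { toFun := fun a => π ((a : G) * a)
        map_one' := by simp
        map_mul' := fun u v => by
          have h : π (u : G) * π (v : G) = π (v : G) * π (u : G) := by
            rw [← mul_inv_eq_one, mul_inv_rev, ← mul_assoc, ← map_inv, ← map_inv, ← map_mul, ← map_mul, ← map_mul]
            exact (QuotientGroup.eq_one_iff _).2 (hcon _ u.2 _ v.2)
          simp only [Subgroup.coe_mul, map_mul]
          rw [mul_assoc, ← mul_assoc (π (v : G)), ← h, ← mul_assoc, ← mul_assoc, mul_assoc (π (u : G) * π u)] }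
    have hkle : phi Q ≤ d.ker.map Q.subtype := fun f hf =>
      ⟨⟨f, phi_le Q hf⟩, (QuotientGroup.eq_one_iff _).2 (hM.sq f hf), rfl⟩
    have hrange : Nat.card d.range * Nat.card M ≤ Nat.card (phi Q) := by
      rw [← card_map_mk hlt.le]
      refine Nat.mul_le_mul_right _ (card_le_of_le ?_)
      rintro _ ⟨x, rfl⟩
      exact mem_map_of_mem π (sq_mem_phi S.two x.2)
    rcases S.irr hkle (map_subtype_le _) (by
      rintro _ ⟨⟨x, hx⟩, hxd, rfl⟩
      refine ⟨⟨y * x * y⁻¹, (inferInstance : Q.Normal).conj_mem x hx y⟩, ?_, rfl⟩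
      show π (y * x * y⁻¹ * (y * x * y⁻¹)) = 1
      rw [show y * x * y⁻¹ * (y * x * y⁻¹) = y * (x * x) * y⁻¹ by group]
      exact (QuotientGroup.eq_one_iff _).2 (hM.normal.conj_mem _ ((QuotientGroup.eq_one_iff _).1 hxd) y))
      with h | h
    · have h1 := d.ker.card_mul_index
      rw [index_ker, ← card_map_of_injective (f := Q.subtype) Q.subtype_injective] at h1
      have h2 := card_le_of_le h
      have h3 : Nat.card d.range ≤ 2 := by
        refine Nat.le_of_mul_le_mul_right (hrange.trans ?_) (Nat.card_pos (α := M))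
        exact hle2
      have h4 := Nat.mul_le_mul h2 h3
      rw [h1, S.card] at h4
      have := Nat.card_pos (α := phi Q)
      omega
    · refine hlt.not_ge (phi_le_of_sq fun x hx => ?_)
      obtain ⟨⟨x', hx'⟩, hk, rfl⟩ := h hx
      exact (QuotientGroup.eq_one_iff _).1 hk
  set z := a * b * a⁻¹ * b⁻¹ with hzdef
  have hz : z ∈ phi Q := comm_mem_phi S.two ha hb
  have hcentral : ∀ m ∈ M, ∀ x ∈ Q, ρ m * ρ x = ρ x * ρ m := fun m hm x hx => hN.mk_comm hm hx
  set K : Subgroup G := Q ⊓ (centralizer {ρ z}).comap ρ with hKdef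
  have hK : ∀ x, x ∈ K ↔ x ∈ Q ∧ ρ x * ρ z = ρ z * ρ x := fun x => by
    rw [hKdef, mem_inf, mem_comap, mem_centralizer_singleton_iff]
  have hphiK : phi Q ≤ K := fun f hf => (hK f).2 ⟨phi_le Q hf, by
    rcases hdec z hz hab f hf with h | h
    · exact hcentral f h z (phi_le Q hz)
    · have hc := hcentral _ h z (phi_le Q hz)
      rw [map_mul, ← mul_assoc (ρ z)] at hc
      exact mul_right_cancel hc⟩
  rcases S.irr hphiK inf_le_left (fun x hx => by
    obtain ⟨hxQ, hxc⟩ := (hK x).1 hx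
    refine (hK _).2 ⟨(inferInstance : Q.Normal).conj_mem x hxQ y, ?_⟩
    have hm := S.fix_y hM z hz
    set m := y * z * y⁻¹ * z⁻¹ with hmdef
    have hzy : ρ z = (ρ m)⁻¹ * ρ (y * z * y⁻¹) := by
      rw [← map_inv, ← map_mul]; congr 1; rw [hmdef]; group
    have h1 : ρ (y * x * y⁻¹) * ρ (y * z * y⁻¹) = ρ (y * z * y⁻¹) * ρ (y * x * y⁻¹) := by
      simp only [map_mul, map_inv]
      calc ρ y * ρ x * (ρ y)⁻¹ * (ρ y * ρ z * (ρ y)⁻¹) = ρ y * (ρ x * ρ z) * (ρ y)⁻¹ := by group
        _ = _ := by rw [hxc]; group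
    have h2 : Commute (ρ (y * x * y⁻¹)) ((ρ m)⁻¹) :=
      (show Commute (ρ m) (ρ (y * x * y⁻¹)) from
        hcentral m hm _ ((inferInstance : Q.Normal).conj_mem x hxQ y)).symm.inv_right
    rw [hzy]
    exact (h2.mul_right h1).eq) with hcase | hcase
  · -- the centraliser of `z` is small
    let d : Q →* (G ⧸ M) × (G ⧸ M) :=
      { toFun := fun x => (π ((x : G) * a * (x : G)⁻¹ * a⁻¹), π ((x : G) * b * (x : G)⁻¹ * b⁻¹))
        map_one' := by simp
        map_mul' := fun u v => by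
          have key : ∀ c ∈ Q, π ((u : G) * v * c * ((u : G) * v)⁻¹ * c⁻¹) =
              π ((u : G) * c * (u : G)⁻¹ * c⁻¹) * π ((v : G) * c * (v : G)⁻¹ * c⁻¹) := fun c hc => by
            set Bv := π ((v : G) * c * (v : G)⁻¹ * c⁻¹)
            set Bu := π ((u : G) * c * (u : G)⁻¹ * c⁻¹)
            have h1 : π ((u : G) * v * c * ((u : G) * v)⁻¹ * c⁻¹) = π (u : G) * Bv * (π (u : G))⁻¹ * Bu := by
              simp only [Bv, Bu, map_mul, map_inv]; group
            rw [h1, hcommM _ (comm_mem_phi S.two v.2 hc) u, mul_inv_cancel_right,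
              hcommM _ (comm_mem_phi S.two u.2 hc)]
          ext
          · exact key a ha
          · exact key b hb }
    have hker : d.ker.map Q.subtype ≤ phi Q := by
      rintro _ ⟨⟨x, hx⟩, hxd, rfl⟩
      refine hcase ((hK x).2 ⟨hx, ?_⟩)
      have hm1 : x * a * x⁻¹ * a⁻¹ ∈ M := (QuotientGroup.eq_one_iff _).1 (congrArg Prod.fst hxd)
      have hm2 : x * b * x⁻¹ * b⁻¹ ∈ M := (QuotientGroup.eq_one_iff _).1 (congrArg Prod.snd hxd)
      set A := ρ (x * a * x⁻¹ * a⁻¹)
      set B := ρ (x * b * x⁻¹ * b⁻¹)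
      have cA : ∀ c ∈ Q, A * ρ c = ρ c * A := fun c hc => hcentral _ hm1 c hc
      have cB : ∀ c ∈ Q, B * ρ c = ρ c * B := fun c hc => hcentral _ hm2 c hc
      have cA' : ∀ c ∈ Q, A * (ρ c)⁻¹ = (ρ c)⁻¹ * A := fun c hc => by
        rw [← map_inv]; exact cA _ (inv_mem hc)
      have h : ρ x * ρ z * (ρ x)⁻¹ = ρ z := by
        calc ρ x * ρ z * (ρ x)⁻¹ = (A * ρ a) * (B * ρ b) * (A * ρ a)⁻¹ * (B * ρ b)⁻¹ := by
              simp only [A, B, hzdef, map_mul, map_inv]; group
          _ = A * (ρ a * B * ρ b * (ρ a)⁻¹) * A⁻¹ * (ρ b)⁻¹ * B⁻¹ := by group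
          _ = (ρ a * B * ρ b * (ρ a)⁻¹) * (ρ b)⁻¹ * B⁻¹ := by
              have hAx : A * (ρ a * B * ρ b * (ρ a)⁻¹) = (ρ a * B * ρ b * (ρ a)⁻¹) * A := by
                have hmemQ : a * (x * b * x⁻¹ * b⁻¹) * b * a⁻¹ ∈ Q :=
                  mul_mem (mul_mem (mul_mem ha (phi_le Q (comm_mem_phi S.two hx hb))) hb) (inv_mem ha)
                simpa only [B, map_mul, map_inv] using cA _ hmemQ
              rw [hAx, mul_inv_cancel_right]
          _ = B * (ρ a * ρ b * (ρ a)⁻¹ * (ρ b)⁻¹) * B⁻¹ := by rw [← cB a ha]; group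
          _ = ρ z := by
              have := cB _ (phi_le Q hz)
              rw [show ρ a * ρ b * (ρ a)⁻¹ * (ρ b)⁻¹ = ρ z by simp only [hzdef, map_mul, map_inv],
                this, mul_inv_cancel_right]
      calc ρ x * ρ z = ρ x * ρ z * (ρ x)⁻¹ * ρ x := by group
        _ = ρ z * ρ x := by rw [h]
    have hrange : Nat.card d.range ≤ 4 := by
      have hsub : d.range ≤ ((phi Q).map π).prod ((phi Q).map π) := by
        rintro _ ⟨x, rfl⟩
        exact ⟨mem_map_of_mem π (comm_mem_phi S.two x.2 ha), mem_map_of_mem π (comm_mem_phi S.two x.2 hb)⟩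
      have h1 : Nat.card ((phi Q).map π) ≤ 2 := by
        refine Nat.le_of_mul_le_mul_right ((card_map_mk hlt.le).trans_le hle2) (Nat.card_pos (α := M))
      refine (card_le_of_le hsub).trans ?_
      rw [Nat.card_congr (prodEquiv _ _).toEquiv, Nat.card_prod]
      exact Nat.mul_le_mul h1 h1
    have h1 := d.ker.card_mul_index
    rw [index_ker, ← card_map_of_injective (f := Q.subtype) Q.subtype_injective] at h1
    have h4 := Nat.mul_le_mul (card_le_of_le hker) hrange
    rw [h1, S.card] at h4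
    have := Nat.card_pos (α := phi Q)
    omega
  · -- `Φ(Q)` is central modulo `N`
    have hzc : ∀ x ∈ Q, ρ z * ρ x = ρ x * ρ z := fun x hx => ((hK x).1 (hcase hx)).2.symm
    have hcen : ∀ f ∈ phi Q, ∀ x ∈ Q, ρ f * ρ x = ρ x * ρ f := fun f hf x hx => by
      rcases hdec z hz hab f hf with h | h
      · exact hcentral f h x hx
      · have h1 := hcentral _ h x hx
        rw [map_mul] at h1
        have hze : Commute (ρ z) (ρ x) := hzc x hx
        calc ρ f * ρ x = ρ f * ρ z * ((ρ z)⁻¹ * ρ x) := by group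
          _ = ρ f * ρ z * ρ x * (ρ z)⁻¹ := by rw [hze.inv_left.eq]; group
          _ = _ := by rw [h1]; group
    have hzz : ρ z * ρ z = 1 := by
      have h1 := hcen _ (sq_mem_phi S.two ha) b hb
      rw [map_mul] at h1
      have h2 := hzc a ha
      have e : ρ z = ρ a * ρ b * (ρ a)⁻¹ * (ρ b)⁻¹ := by simp only [hzdef, map_mul, map_inv]
      calc ρ z * ρ z = (ρ a * ρ z * (ρ a)⁻¹) * ρ z := by rw [← h2, mul_inv_cancel_right]
        _ = (ρ a * ρ a * ρ b) * ((ρ a)⁻¹ * (ρ a)⁻¹ * (ρ b)⁻¹) := by rw [e]; group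
        _ = 1 := by rw [h1]; group
    have hlay : Layer Q (phi Q) N := ⟨hN.normal, hN.le.trans hM.le, fun f hf => by
        rw [← QuotientGroup.eq_one_iff, QuotientGroup.mk_mul]
        show ρ f * ρ f = 1
        rcases hdec z hz hab f hf with h | h
        · exact hN.mk_sq h
        · have h1 : ρ (f * z) * ρ (f * z) = 1 := hN.mk_sq h
          have h2 := hcen z hz f (phi_le Q hf)
          rw [map_mul, mul_assoc, ← mul_assoc (ρ z), h2, mul_assoc, hzz, mul_one] at h1
          exact h1,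
      fun f hf x hx => by
        rw [← QuotientGroup.eq_one_iff, QuotientGroup.mk_mul, QuotientGroup.mk_mul, QuotientGroup.mk_mul,
          QuotientGroup.mk_inv, QuotientGroup.mk_inv, mul_inv_eq_one, mul_inv_eq_iff_eq_mul]
        exact hcen f hf x hx⟩
    exact hlt2.not_ge (minLayer_le hlay)

end

end Cfsg.Agent.RankFourRadical
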