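import Cfsg.Agent.Lib.RankFourRadical.Shape
import Cfsg.Agent.Lib.Coprime.Frattini

/-!
# The setting attached to an extension by `A5`

`exists_setting`: a self-centralising normal 2-subgroup with quotient `A5` in a group with sections of
exponent 2 of order at most 16.
-/

set_option autoImplicit false

namespace Cfsg.Agent.RankFourRadical

open Subgroup

section

theorem exists_elements : ∃ s t u : alternatingGroup (Fin 5), s ^ 5 = 1 ∧ s ≠ 1 ∧ t * t = 1 ∧ t ≠ 1 ∧
    t * s * t⁻¹ = s⁻¹ ∧ u ^ 3 = 1 ∧ u ≠ 1 :=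
  ⟨⟨finRotate 5, by rw [Equiv.Perm.mem_alternatingGroup]; decide⟩,
    ⟨Equiv.swap 1 4 * Equiv.swap 2 3, by rw [Equiv.Perm.mem_alternatingGroup]; decide⟩,
    ⟨Equiv.swap 0 1 * Equiv.swap 1 2, by rw [Equiv.Perm.mem_alternatingGroup]; decide⟩, by decide⟩

variable {P : Type*} [Group P] [Finite P]

theorem pow_pow_eq_one {g : P} {p k m : ℕ} (hk : g ^ (p * 2 ^ k) = 1) (hm : k ≤ m) : (g ^ (2 ^ m)) ^ p = 1 := by
  rw [← pow_mul, ← Nat.sub_add_cancel hm, pow_add, show 2 ^ (m - k) * 2 ^ k * p = p * 2 ^ k * 2 ^ (m - k) by ring,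
    pow_mul, hk, one_pow]

theorem exists_setting (h4 : Sect4 P) (Q : Subgroup P) [Q.Normal] (hQ : IsPGroup 2 Q)
    (φ : P →* alternatingGroup (Fin 5)) (hφ : Function.Surjective φ) (hker : φ.ker = Q)
    (hchar : centralizer (Q : Set P) ≤ Q) : ∃ y n w : P, Setting Q y n w := by
  haveI : Fact (Nat.Prime 5) := ⟨by norm_num⟩
  haveI : Fact (Nat.Prime 2) := ⟨Nat.prime_two⟩
  obtain ⟨s, t, u, hs5, hs1, htt, ht1, hts, hu3, hu1⟩ := exists_elements
  have hlift : ∀ (v : alternatingGroup (Fin 5)) (p a : ℕ), v ^ p = 1 → 1 < p → 1 ≤ a →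
      (2 ^ a) % p = 1 → ∃ g : P, φ g = v ∧ g ^ p = 1 := by
    intro v p a hv hp ha hmod
    obtain ⟨g, rfl⟩ := hφ v
    have hg : g ^ p ∈ Q := by rw [← hker, MonoidHom.mem_ker, map_pow, hv]
    obtain ⟨k, hk⟩ := hQ ⟨_, hg⟩
    have hk' : g ^ (p * 2 ^ k) = 1 := by rw [pow_mul]; exact congrArg Subtype.val hk
    refine ⟨g ^ (2 ^ (a * k)), ?_, pow_pow_eq_one hk' (Nat.le_mul_of_pos_left k ha)⟩
    rw [map_pow, pow_eq_pow_mod _ hv, pow_mul, Nat.pow_mod, hmod, one_pow, Nat.mod_eq_of_lt hp, pow_one]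
  obtain ⟨y, hys, hy5⟩ := hlift s 5 4 hs5 (by norm_num) (by norm_num) (by norm_num)
  obtain ⟨w, hwu, hw3⟩ := hlift u 3 2 hu3 (by norm_num) (by norm_num) (by norm_num)
  have hmemQ : ∀ g, g ∈ Q ↔ φ g = 1 := fun g => by rw [← hker, MonoidHom.mem_ker]
  -- normal subgroups above `Q`
  have hgen : ∀ N : Subgroup P, N.Normal → Q ≤ N → (∃ g ∈ N, φ g ≠ 1) → N = ⊤ := by
    rintro N hN hQN ⟨g, hg, hg1⟩
    have h := (hN.map φ hφ).eq_bot_or_eq_top.resolve_left fun h =>
      hg1 (mem_bot.1 (h ▸ mem_map_of_mem φ hg))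
    rw [← sup_eq_left.2 (hker.trans_le hQN), ← comap_map_eq, h, comap_top]
  set ρ := QuotientGroup.mk' (phi Q)
  haveI : (Q.map ρ).Normal := Normal.map inferInstance ρ (QuotientGroup.mk'_surjective _)
  set K := (centralizer (Q.map ρ : Set (P ⧸ phi Q))).comap ρ with hKdef
  have hK : ∀ g, g ∈ K ↔ ∀ a ∈ Q, g * a * g⁻¹ * a⁻¹ ∈ phi Q := fun g => by
    rw [hKdef, mem_comap, mem_centralizer_iff]
    constructor
    · intro h a ha
      rw [← QuotientGroup.eq_one_iff, QuotientGroup.mk_mul, QuotientGroup.mk_mul, QuotientGroup.mk_mul,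
        QuotientGroup.mk_inv, QuotientGroup.mk_inv, mul_inv_eq_one, mul_inv_eq_iff_eq_mul]
      exact (h _ (mem_map_of_mem ρ ha)).symm
    · rintro h _ ⟨a, ha, rfl⟩
      have := h a ha
      rw [← QuotientGroup.eq_one_iff, QuotientGroup.mk_mul, QuotientGroup.mk_mul, QuotientGroup.mk_mul,
        QuotientGroup.mk_inv, QuotientGroup.mk_inv, mul_inv_eq_one, mul_inv_eq_iff_eq_mul] at this
      exact this.symm
  have hQK : Q ≤ K := fun g hg => (hK g).2 fun a ha => comm_mem_phi hQ hg ha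
  -- faithfulness
  have hfaith : ∀ g ∈ K, φ g = 1 := by
    intro g hg
    by_contra hne
    have htop := hgen K inferInstance hQK ⟨g, hg, hne⟩
    have hcop : (Nat.card (zpowers y)).Coprime (Nat.card (frattini Q)) := by
      obtain ⟨i, hi⟩ := IsPGroup.iff_card.1 (hQ.to_subgroup (frattini Q))
      rw [Nat.card_zpowers, hi]
      exact Nat.Coprime.pow_right i (Nat.Coprime.coprime_dvd_left (orderOf_dvd_of_pow_eq_one hy5) (by norm_num))
    have hc := Coprime.le_centralizer_of_forall_mem_frattini (A := zpowers y) (K := Q)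
      ((Subgroup.normalizer_eq_top_iff.2 (inferInstance : Q.Normal)).ge.trans' le_top) hcop
      (fun a _ x hx => (hK a).1 (htop ▸ mem_top a) x hx) (mem_zpowers y)
    exact hs1 (hys ▸ (hmemQ y).1 (hchar hc))
  -- the inverting element
  obtain ⟨n, hnt, hny⟩ : ∃ n, φ n = t ∧ n * y * n⁻¹ = y⁻¹ := by
    obtain ⟨n₀, hn₀⟩ := hφ t
    set H := (zpowers s).comap φ with hH
    have hy' : n₀ * y * n₀⁻¹ ∈ H := by
      rw [hH, mem_comap, map_mul, map_mul, map_inv, hn₀, hys, hts]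
      exact inv_mem (mem_zpowers s)
    have hyH : y ∈ H := by rw [hH, mem_comap, hys]; exact mem_zpowers s
    have hHcard : Nat.card H = Nat.card Q * 5 := by
      have h1 := (φ.comp H.subtype).ker.card_mul_index
      rw [index_ker, MonoidHom.range_comp, range_subtype, hH, map_comap_eq_self_of_surjective hφ,
        Nat.card_zpowers, orderOf_eq_prime hs5 hs1] at h1
      rw [← h1]
      congr 1
      have hQH : Q ≤ H := fun g hg => by rw [hH, mem_comap, (hmemQ g).1 hg]; exact one_mem _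
      have hk : (φ.comp H.subtype).ker = Q.subgroupOf H := by
        ext g; simp [MonoidHom.mem_ker, mem_subgroupOf, hmemQ]
      rw [hk]
      exact Nat.card_congr (subgroupOfEquivOfLe hQH).toEquiv
    have hS : ∀ S : Sylow 5 H, Nat.card S = 5 := fun S => by
      obtain ⟨i, hi⟩ := IsPGroup.iff_card.1 hQ
      rw [Sylow.card_eq_multiplicity, hHcard, hi, Nat.factorization_mul (by positivity) (by norm_num)]
      simp [Nat.factorization_eq_zero_iff, Nat.Prime.factorization_self (show Nat.Prime 5 by norm_num),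
        Nat.prime_two.factorization_pow]
    have hsyl : ∀ g : P, g ^ 5 = 1 → φ g ≠ 1 → ∀ hg : g ∈ H, ∃ S : Sylow 5 H,
        (S : Subgroup H) = zpowers ⟨g, hg⟩ := by
      intro g hg5 hg1 hg
      have ho : orderOf (⟨g, hg⟩ : H) = 5 :=
        orderOf_eq_prime (Subtype.ext hg5) fun h => hg1 (by
          rw [show g = 1 from congrArg Subtype.val h]; exact map_one φ)
      have hp : IsPGroup 5 (zpowers (⟨g, hg⟩ : H)) :=
        IsPGroup.iff_card.2 ⟨1, by rw [Nat.card_zpowers, ho, pow_one]⟩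
      obtain ⟨S, hle⟩ := hp.exists_le_sylow
      exact ⟨S, (eq_of_le_of_card_ge hle (by rw [hS S, Nat.card_zpowers, ho])).symm⟩
    have hyn : φ (n₀ * y * n₀⁻¹) = s⁻¹ := by rw [map_mul, map_mul, map_inv, hn₀, hys, hts]
    obtain ⟨S₁, hS₁⟩ := hsyl y hy5 (by rw [hys]; exact hs1) hyH
    obtain ⟨S₂, hS₂⟩ := hsyl (n₀ * y * n₀⁻¹) (by rw [conj_pow, hy5, mul_one, mul_inv_cancel])
      (by rw [hyn]; exact inv_ne_one.2 hs1) hy'
    obtain ⟨q, hq⟩ := MulAction.exists_smul_eq H S₂ S₁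
    have hconj : ((q : H) : P) * (n₀ * y * n₀⁻¹) * ((q : H) : P)⁻¹ ∈ zpowers y := by
      have hm : MulAut.conj q (⟨_, hy'⟩ : H) ∈ (S₁ : Subgroup H) := by
        rw [← hq, Sylow.coe_subgroup_smul, Subgroup.mem_pointwise_smul_iff_inv_smul_mem]
        show (MulAut.conj q)⁻¹ (MulAut.conj q _) ∈ (S₂ : Subgroup H)
        rw [← MulAut.mul_apply, inv_mul_cancel, MulAut.one_apply, hS₂]
        exact mem_zpowers _
      rw [hS₁] at hm
      obtain ⟨i, hi⟩ := mem_zpowers_iff.1 hm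
      refine mem_zpowers_iff.2 ⟨i, ?_⟩
      simpa using congrArg Subtype.val hi
    obtain ⟨j, hj⟩ := mem_zpowers_iff.1 (show φ (q : P) ∈ zpowers s from q.2)
    set r := (y ^ j)⁻¹ * (q : P)
    have hr : φ r = 1 := by rw [map_mul, map_inv, map_zpow, hys, hj, inv_mul_cancel]
    refine ⟨r * n₀, by rw [map_mul, hr, hn₀, one_mul], ?_⟩
    obtain ⟨i, hi⟩ := mem_zpowers_iff.1 hconj
    have he : r * n₀ * y * (r * n₀)⁻¹ = y ^ i := by
      calc r * n₀ * y * (r * n₀)⁻¹ = (y ^ j)⁻¹ * ((q : P) * (n₀ * y * n₀⁻¹) * (q : P)⁻¹) * y ^ j := by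
            simp only [r]; group
        _ = y ^ i := by rw [← hi]; group
    have h1 : s ^ i = s⁻¹ := by
      rw [← hys, ← map_zpow, ← he, map_mul, map_mul, map_inv, map_mul, hr, one_mul, hn₀, hys, hts]
    have h2 : y ^ (i + 1) = 1 := by
      rw [← orderOf_dvd_iff_zpow_eq_one, orderOf_eq_prime hy5 (fun h => hs1 (by rw [← hys, h, map_one])),
        ← orderOf_eq_prime hs5 hs1, orderOf_dvd_iff_zpow_eq_one, zpow_add_one, h1, inv_mul_cancel]
    rw [he]
    exact eq_inv_of_mul_eq_one_left (by rw [← zpow_add_one]; exact h2)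
  -- the order of the quotient
  have hle : Nat.card Q ≤ 16 * Nat.card (phi Q) :=
    h4 Q (phi Q) (phi_le Q) (fun x _ r hr => (phi_normal Q).conj_mem r hr x) fun x hx => sq_mem_phi hQ hx
  set V := Q.map ρ
  set C := V ⊓ centralizer {ρ y} with hC
  have hV : Nat.card V * Nat.card (phi Q) = Nat.card Q := card_map_mk (phi_le Q)
  have hCV : C ≠ V := fun h => hs1 (by
    rw [← hys]
    refine hfaith y ((hK y).2 fun a ha => ?_)
    have hm : ρ a ∈ C := h.symm ▸ mem_map_of_mem ρ ha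
    rw [← QuotientGroup.eq_one_iff]
    show ρ (y * a * y⁻¹ * a⁻¹) = 1
    rw [map_mul, map_mul, map_mul, map_inv, map_inv, mul_inv_eq_one, mul_inv_eq_iff_eq_mul]
    exact (mem_centralizer_singleton_iff.1 hm.2).symm)
  have hmod : Nat.card V ≡ Nat.card C [MOD 5] := by
    let e : Equiv.Perm V := MulAut.toPerm V (MulAut.conjNormal (ρ y))
    have h := level_card e 5 (by simp only [e]; rw [← map_pow, ← map_pow, ← map_pow, hy5, map_one, map_one, map_one])
      (fun _ => ()) (fun _ => rfl) ()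
    have eC : {a : V // () = () ∧ e a = a} ≃ C :=
      { toFun := fun a => ⟨a.1, a.1.2, mem_centralizer_singleton_iff.2 (by
          have h2 : ρ y * (a.1 : P ⧸ phi Q) * (ρ y)⁻¹ = a.1 := by
            rw [← MulAut.conjNormal_apply]; exact congrArg Subtype.val a.2.2
          exact (mul_inv_eq_iff_eq_mul.1 h2).symm)⟩
        invFun := fun a => ⟨⟨a.1, a.2.1⟩, rfl, Subtype.ext (by
          show ((MulAut.conjNormal (ρ y)) (⟨a.1, a.2.1⟩ : V) : P ⧸ phi Q) = _
          rw [MulAut.conjNormal_apply]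
          exact mul_inv_eq_iff_eq_mul.2 (mem_centralizer_singleton_iff.1 a.2.2).symm)⟩
        left_inv := fun a => rfl
        right_inv := fun a => rfl }
    rw [Nat.card_congr eC, Nat.card_congr (Equiv.subtypeUnivEquiv fun _ : V => rfl)] at h
    exact h
  obtain ⟨r, hr⟩ := IsPGroup.iff_card.1 (hQ.map ρ)
  obtain ⟨s', hs'⟩ := IsPGroup.iff_card.1 ((hQ.map ρ).to_le (inf_le_left : C ≤ V))
  have hlt : Nat.card C < Nat.card V := lt_of_le_of_ne (card_le_of_le inf_le_left) fun h =>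
    hCV (eq_of_le_of_card_ge inf_le_left h.ge)
  have h16 : Nat.card V ≤ 2 ^ 4 := Nat.le_of_mul_le_mul_right (hV.trans_le hle) Nat.card_pos
  rw [hr, hs'] at hmod hlt
  rw [hr] at h16
  have hr4 := (Nat.pow_le_pow_iff_right (le_refl 2)).1 h16
  have hsr := (Nat.pow_lt_pow_iff_right (le_refl 2)).1 hlt
  have : r = 4 ∧ s' = 0 := by
    interval_cases r <;> interval_cases s' <;> simp_all [Nat.ModEq]
  obtain ⟨rfl, rfl⟩ := this
  have hCbot : C = ⊥ := eq_bot_of_card_eq C (by rw [hs', pow_zero])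
  refine ⟨y, n, w, h4, hQ, hy5, hw3, hny, ?_, ?_, ?_, ?_, ?_, ?_⟩
  · exact fun h => ht1 (hnt ▸ (hmemQ n).1 h)
  · rw [hmemQ, map_mul, hnt, htt]
  · rw [← hV, hr]; norm_num
  · intro a ha h
    rw [← QuotientGroup.eq_one_iff]
    have hm : ρ a ∈ C := ⟨mem_map_of_mem ρ ha, mem_centralizer_singleton_iff.2 (by
      have h1 : ρ (y * a * y⁻¹ * a⁻¹) = 1 := (QuotientGroup.eq_one_iff _).2 h
      rw [map_mul, map_mul, map_mul, map_inv, map_inv, mul_inv_eq_one, mul_inv_eq_iff_eq_mul] at h1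
      exact h1.symm)⟩
    rw [hCbot, mem_bot] at hm
    exact hm
  · by_contra h
    push Not at h
    exact hu1 (hwu ▸ hfaith w ((hK w).2 h))
  · exact fun N hN hQN hyN => hgen N hN hQN ⟨y, hyN, hys ▸ hs1⟩

end

end Cfsg.Agent.RankFourRadical
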