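import Cfsg.Agent.Lib.RankFourRadical.Order
import Cfsg.Agent.Lib.Involves.Basic
import Cfsg.Agent.Lib.GLOrder.Torus

/-!
# The shape of the radical

`shape32`: a group of order 32 with center of order 2 containing all squares and commutators, and a
permutation of order 5 respecting involutions and fixing only the center, is `Q8 ∘ D8`.
`Setting.shape`: the radical is elementary of order 16 or `Q8 ∘ D8`.
-/

set_option autoImplicit false

namespace Cfsg.Agent.RankFourRadical

open Subgroup

section

variable {T : Type*} [Group T]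

/-- The word `c^i d^j a^k b^l z^m`. -/
def word (c d a b z : T) (p : Bool × Bool × Bool × Bool × Bool) : T :=
  (if p.1 then c else 1) * (if p.2.1 then d else 1) * (if p.2.2.1 then a else 1) *
    (if p.2.2.2.1 then b else 1) * (if p.2.2.2.2 then z else 1)

/-- Generators of a central product of two groups of order 8 over `⟨z⟩`. -/
structure Quad (c d a b z : T) : Prop where
  cc : c * c = 1
  dd : d * d = 1
  cd : c * d = z * (d * c)
  ab : a * b = z * (b * a)
  ac : a * c = c * a
  ad : a * d = d * a
  bc : b * c = c * b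
  bd : b * d = d * b
  z1 : z ≠ 1
  zz : z * z = 1
  zc : ∀ x, z * x = x * z

variable {c d a b z : T}

theorem Quad.ne_comm (h : Quad c d a b z) {u v : T} (huv : u * v = z * (v * u)) : u * v ≠ v * u :=
  fun e => h.z1 (mul_eq_right.1 (huv.symm.trans e))

theorem Quad.swap (h : Quad c d a b z) : Quad c d b a z :=
  { h with
    ab := by rw [h.ab, ← mul_assoc, h.zz, one_mul]
    ac := h.bc, ad := h.bd, bc := h.ac, bd := h.ad }

theorem Quad.mulLeft (h : Quad c d a b z) : Quad c d a (a * b) z :=
  { h with
    ab := by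
      calc a * (a * b) = a * (z * (b * a)) := by rw [h.ab]
        _ = z * (a * b * a) := by rw [← mul_assoc a z, ← h.zc]; group
    bc := by rw [mul_assoc, h.bc, ← mul_assoc, h.ac, mul_assoc]
    bd := by rw [mul_assoc, h.bd, ← mul_assoc, h.ad, mul_assoc] }

theorem Quad.sq_mul (h : Quad c d a b z) {u v : T} (huv : u * v = z * (v * u)) :
    u * v * (u * v) = z * (u * u) * (v * v) := by
  have hvu : v * u = z * (u * v) := by rw [huv, ← mul_assoc, h.zz, one_mul]
  calc u * v * (u * v) = u * (v * u) * v := by group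
    _ = u * z * (u * v) * v := by rw [hvu]; group
    _ = z * (u * u) * (v * v) := by rw [← h.zc]; group

theorem Quad.word_injective (h : Quad c d a b z) : Function.Injective (word c d a b z) := by
  let χ : T → T → T := fun t x => x * t * x⁻¹ * t⁻¹
  have h1 : ∀ t u, u * t = t * u → χ t u = 1 := fun t u e => by
    show u * t * u⁻¹ * t⁻¹ = 1
    rw [e]; group
  have hz' : ∀ t u, u * t = z * (t * u) → χ t u = z := fun t u e => by
    show u * t * u⁻¹ * t⁻¹ = z
    rw [e]; group
  have hmul : ∀ t u v, (χ t v = 1 ∨ χ t v = z) → χ t (u * v) = χ t u * χ t v := fun t u v hv => by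
    have hc : ∀ r : T, χ t v * r = r * χ t v := fun r => by
      rcases hv with e | e <;> rw [e]
      · simp
      · exact h.zc r
    calc χ t (u * v) = u * χ t v * (t * u⁻¹ * t⁻¹) := by simp only [χ]; group
      _ = χ t v * χ t u := by rw [← hc u]; simp only [χ]; group
      _ = _ := hc _
  have hit : ∀ t u (i : Bool), χ t (if i then u else 1) = if i then χ t u else 1 := fun t u i => by
    cases i
    · exact h1 _ _ (by simp)
    · rfl
  have hval : ∀ t x r, (χ t x = r) → (r = 1 ∨ r = z) → ∀ i : Bool,
      χ t (if i then x else 1) = 1 ∨ χ t (if i then x else 1) = z := fun t x r e hr i => by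
    rw [hit]; cases i
    · exact Or.inl rfl
    · rw [if_pos rfl, e]; exact hr
  have key : ∀ t ec ed ea eb, χ t c = ec → χ t d = ed → χ t a = ea → χ t b = eb →
      (ed = 1 ∨ ed = z) → (ea = 1 ∨ ea = z) → (eb = 1 ∨ eb = z) → ∀ p,
      χ t (word c d a b z p) = (if p.1 then ec else 1) * (if p.2.1 then ed else 1) *
        (if p.2.2.1 then ea else 1) * (if p.2.2.2.1 then eb else 1) := by
    intro t ec ed ea eb hc hd ha hb vd va vb p
    have hz0 : χ t z = 1 := h1 _ _ (h.zc t)
    rw [word, hmul _ _ _ (hval _ _ _ hz0 (Or.inl rfl) _), hmul _ _ _ (hval _ _ _ hb vb _),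
      hmul _ _ _ (hval _ _ _ ha va _), hmul _ _ _ (hval _ _ _ hd vd _),
      hit, hit, hit, hit, hit, hc, hd, ha, hb, hz0]
    cases p.2.2.2.2 <;> simp
  have hdc : d * c = z * (c * d) := by rw [h.cd, ← mul_assoc, h.zz, one_mul]
  have kd := key d z 1 1 1 (hz' _ _ h.cd) (h1 _ _ rfl) (h1 _ _ h.ad) (h1 _ _ h.bd) (.inl rfl) (.inl rfl) (.inl rfl)
  have kc := key c 1 z 1 1 (h1 _ _ rfl) (hz' _ _ hdc) (h1 _ _ h.ac) (h1 _ _ h.bc) (.inr rfl) (.inl rfl) (.inl rfl)
  have kb := key b 1 1 z 1 (h1 _ _ h.bc.symm) (h1 _ _ h.bd.symm) (hz' _ _ h.ab) (h1 _ _ rfl) (.inl rfl) (.inr rfl) (.inl rfl)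
  have ka := key a 1 1 1 z (h1 _ _ h.ac.symm) (h1 _ _ h.ad.symm) (h1 _ _ rfl) (hz' _ _ h.swap.ab) (.inl rfl) (.inl rfl) (.inr rfl)
  simp only [ite_self, mul_one, one_mul] at kd kc kb ka
  have hb : ∀ i i' : Bool, (if i then z else 1) = (if i' then z else (1 : T)) → i = i' := by
    intro i i'; cases i <;> cases i' <;> simp [h.z1, Ne.symm h.z1]
  rintro ⟨i, j, k, l, m⟩ ⟨i', j', k', l', m'⟩ e
  obtain rfl : i = i' := hb _ _ ((kd _).symm.trans ((congrArg (χ d) e).trans (kd _)))
  obtain rfl : j = j' := hb _ _ ((kc _).symm.trans ((congrArg (χ c) e).trans (kc _)))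
  obtain rfl : k = k' := hb _ _ ((kb _).symm.trans ((congrArg (χ b) e).trans (kb _)))
  obtain rfl : l = l' := hb _ _ ((ka _).symm.trans ((congrArg (χ a) e).trans (ka _)))
  obtain rfl : m = m' := hb _ _ (mul_left_cancel e)
  rfl

theorem Quad.word_sq (h : Quad c d a b z) (ha : a * a = 1) (hb : b * b = 1) :
    ∀ p, word c d a b z p * word c d a b z p = 1 ↔ (p.1 && p.2.1) = (p.2.2.1 && p.2.2.2.1) := by
  rintro ⟨i, j, k, l, m⟩
  set u := (if i then c else 1) * (if j then d else 1) with hu
  set v := (if k then a else 1) * (if l then b else 1) with hv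
  set f := (if m then z else (1 : T)) with hf
  have hw : word c d a b z (i, j, k, l, m) = u * v * f := by
    simp only [word, hu, hv, hf, mul_assoc]
  have hfc : ∀ x, f * x = x * f := fun x => by cases m <;> simp [hf, h.zc]
  have hff : f * f = 1 := by cases m <;> simp [hf, h.zz]
  have huv : Commute v u := by
    have e1 : Commute a c := h.ac
    have e2 : Commute a d := h.ad
    have e3 : Commute b c := h.bc
    have e4 : Commute b d := h.bd
    have e : ∀ {x w : T} (i j : Bool), Commute x w → Commute (if i then x else 1) (if j then w else 1) :=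
      fun i j e => by cases i <;> cases j <;> simp [e]
    exact ((e k i e1).mul_right (e k j e2)).mul_left ((e l i e3).mul_right (e l j e4))
  have hu2 : u * u = if i && j then z else 1 := by
    cases i <;> cases j <;> simp [hu, h.cc, h.dd, h.sq_mul h.cd]
  have hv2 : v * v = if k && l then z else 1 := by
    cases k <;> cases l <;> simp [hv, ha, hb, h.sq_mul h.ab]
  have : u * v * f * (u * v * f) = u * u * (v * v) := by
    calc u * v * f * (u * v * f) = u * v * (u * v) * (f * f) := by
          rw [mul_assoc (u * v), ← mul_assoc f, hfc]; group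
      _ = u * (v * u) * v := by rw [hff]; group
      _ = u * u * (v * v) := by rw [huv.eq]; group
  rw [hw, this, hu2, hv2]
  cases i <;> cases j <;> cases k <;> cases l <;> simp [h.z1, h.zz]

/-- A group of order 32 as in the file header is `Q8 ∘ D8`. -/
theorem shape32 [Finite T] (hz1 : z ≠ 1) (hzz : z * z = 1) (hzc : ∀ x, z * x = x * z)
    (hcomm : ∀ u v : T, u * v = v * u ∨ u * v = z * (v * u)) (hsq : ∀ x : T, x * x = 1 ∨ x * x = z)
    (hcen : ∀ x, (∀ t, x * t = t * x) → x = 1 ∨ x = z) (hcard : Nat.card T = 32)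
    (e : Equiv.Perm T) (he5 : e ^ 5 = 1) (hesq : ∀ x, e x * e x = 1 ↔ x * x = 1)
    (hefix : ∀ x, e x = x → x = 1 ∨ x = z) (he1 : e 1 = 1) (hez : e z = z) :
    ∃ A B : Subgroup T, Nonempty (↥A ≃* QuaternionGroup 2) ∧ Nonempty (↥B ≃* DihedralGroup 4) ∧
      (∀ a ∈ A, ∀ b ∈ B, a * b = b * a) ∧ A ⊔ B = ⊤ ∧ A ⊓ B = Subgroup.center T := by
  classical
  have hsmall : ∀ f : Bool × Bool × Bool → T, ∃ x, ∀ p, f p ≠ x := fun f => by
    by_contra hcon
    push Not at hcon
    have := Nat.card_le_card_of_surjective f hcon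
    rw [hcard, Nat.card_eq_fintype_card] at this
    simp at this
  have hzinv : z⁻¹ = z := inv_eq_of_mul_eq_one_right hzz
  -- an involution outside the center
  obtain ⟨c, hc1, hcz, hcc⟩ : ∃ c : T, c ≠ 1 ∧ c ≠ z ∧ c * c = 1 := by
    by_contra hcon
    push Not at hcon
    have hs : ∀ x : T, x ≠ 1 → x ≠ z → x * x = z := fun x h1 h2 => (hsq x).resolve_left (hcon x h1 h2)
    obtain ⟨a, ha⟩ := hsmall fun p => if p.2.2 then z else 1
    have ha1 : a ≠ 1 := fun h => ha (false, false, false) (by simp [h])
    have haz : a ≠ z := fun h => ha (false, false, true) (by simp [h])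
    have haa := hs a ha1 haz
    have hai : a⁻¹ = a * z := inv_eq_of_mul_eq_one_right (by rw [← mul_assoc, haa, hzz])
    have hC : ∀ x, x * a = a * x → x = 1 ∨ x = z ∨ x = a ∨ x = a * z := by
      intro x hxa
      by_contra hx
      push Not at hx
      obtain ⟨h1, h2, h3, h4⟩ := hx
      refine hcon (a * x) (fun h => ?_) (fun h => ?_) ?_
      · exact h4 (by rw [← hai]; exact eq_inv_of_mul_eq_one_right h)
      · exact h3 (mul_left_cancel (h.trans haa.symm))
      · calc a * x * (a * x) = a * (x * a) * x := by group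
          _ = a * a * (x * x) := by rw [hxa]; group
          _ = 1 := by rw [haa, hs x h1 h2, hzz]
    obtain ⟨x, hx⟩ := hsmall fun p => (if p.2.1 then a else 1) * if p.2.2 then z else 1
    have hxa : x * a = z * (a * x) := (hcomm x a).resolve_left fun h => by
      rcases hC x h with r | r | r | r
      · exact hx (false, false, false) (by simp [r])
      · exact hx (false, false, true) (by simp [r])
      · exact hx (false, true, false) (by simp [r])
      · exact hx (false, true, true) (by simp [r])
    have hxx : x * x = z := hs x (fun h => hx (false, false, false) (by simp [h]))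
      (fun h => hx (false, false, true) (by simp [h]))
    obtain ⟨w, hw⟩ := hsmall fun p => x * ((if p.2.1 then a else 1) * if p.2.2 then z else 1)
    obtain ⟨v, hv⟩ := hsmall fun p => (if p.1 then x else 1) * ((if p.2.1 then a else 1) * if p.2.2 then z else 1)
    have hva : v * a = z * (a * v) := (hcomm v a).resolve_left fun h => by
      rcases hC v h with r | r | r | r
      · exact hv (false, false, false) (by simp [r])
      · exact hv (false, false, true) (by simp [r])
      · exact hv (false, true, false) (by simp [r])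
      · exact hv (false, true, true) (by simp [r])
    have hxv : (x * v) * a = a * (x * v) := by
      calc x * v * a = x * (v * a) := mul_assoc _ _ _
        _ = x * z * a * v := by rw [hva]; group
        _ = z * (x * a) * v := by rw [← hzc x]; group
        _ = z * z * (a * x) * v := by rw [hxa]; group
        _ = _ := by rw [hzz]; group
    have hxi : x⁻¹ = x * z := inv_eq_of_mul_eq_one_right (by rw [← mul_assoc, hxx, hzz])
    have hv' : ∀ r, x * v = r → v = x * (r * z) := fun r hr => by
      calc v = x⁻¹ * r := by rw [← hr]; group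
        _ = x * (r * z) := by rw [hxi, mul_assoc, hzc r]
    rcases hC _ hxv with r | r | r | r <;> have r' := hv' _ r
    · exact hv (true, false, true) (by simp [r'])
    · exact hv (true, false, false) (by simp [r', hzz])
    · exact hv (true, true, true) (by simp [r'])
    · exact hv (true, true, false) (by simp [r', mul_assoc, hzz])
  -- a noncommuting involution
  obtain ⟨d₀, hd₀⟩ : ∃ d₀, c * d₀ = z * (d₀ * c) := by
    by_contra hcon
    push Not at hcon
    exact (hcen c fun t => (hcomm c t).resolve_right (hcon t)).elim hc1 hcz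
  obtain ⟨d, hcd, hdd⟩ : ∃ d, c * d = z * (d * c) ∧ d * d = 1 := by
    rcases hsq d₀ with h | h
    · exact ⟨d₀, hd₀, h⟩
    · refine ⟨c * d₀, ?_, ?_⟩
      · calc c * (c * d₀) = c * (z * (d₀ * c)) := by rw [hd₀]
          _ = z * (c * d₀ * c) := by rw [← mul_assoc c z, ← hzc c]; group
      · calc c * d₀ * (c * d₀) = z * (d₀ * (c * c) * d₀) := by rw [hd₀]; nth_rewrite 2 [← hd₀]; group
          _ = 1 := by rw [hcc, mul_one, h, hzz]
  have hdc : d * c = z * (c * d) := by rw [hcd, ← mul_assoc, hzz, one_mul]
  -- every element is adjusted into the centraliser of `c` and `d`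
  have hdec : ∀ x : T, ∃ i j : Bool,
      (x * ((if i then c else 1) * if j then d else 1)) * c = c * (x * ((if i then c else 1) * if j then d else 1)) ∧
      (x * ((if i then c else 1) * if j then d else 1)) * d = d * (x * ((if i then c else 1) * if j then d else 1)) := by
    have push : ∀ u v x : T, u * v = z * (v * u) → ∀ ε : Bool, x * v = (if ε then z else 1) * (v * x) →
        (x * u) * v = (if !ε then z else 1) * (v * (x * u)) := by
      intro u v x huv ε hxv
      calc x * u * v = x * (u * v) := mul_assoc _ _ _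
        _ = x * z * v * u := by rw [huv]; group
        _ = z * (x * v) * u := by rw [← hzc x]; group
        _ = _ := by rw [hxv]; cases ε <;> simp [← mul_assoc, hzz]
    intro x
    obtain ⟨εc, hεc⟩ : ∃ ε : Bool, x * c = (if ε then z else 1) * (c * x) :=
      (hcomm x c).elim (fun h => ⟨false, by simpa using h⟩) (fun h => ⟨true, h⟩)
    obtain ⟨εd, hεd⟩ : ∃ ε : Bool, x * d = (if ε then z else 1) * (d * x) :=
      (hcomm x d).elim (fun h => ⟨false, by simpa using h⟩) (fun h => ⟨true, h⟩)
    refine ⟨εd, εc, ?_⟩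
    have keep : ∀ u v x : T, u * v = v * u → ∀ ε : Bool, x * v = (if ε then z else 1) * (v * x) →
        (x * u) * v = (if ε then z else 1) * (v * (x * u)) := fun u v x huv ε hxv => by
      rw [mul_assoc, huv, ← mul_assoc, hxv]; group
    cases εc <;> cases εd <;> simp only [Bool.false_eq_true, ↓reduceIte, one_mul, mul_one] at hεc hεd ⊢
    · exact ⟨hεc, hεd⟩
    · refine ⟨?_, ?_⟩
      · simpa using keep c c x rfl false (by simpa using hεc)
      · simpa using push c d x hcd true (by simpa using hεd)
    · refine ⟨?_, ?_⟩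
      · simpa using push d c x hdc true (by simpa using hεc)
      · simpa using keep d d x rfl false (by simpa using hεd)
    · refine ⟨?_, ?_⟩
      · have := keep c c x rfl true (by simpa using hεc)
        simpa [mul_assoc] using push d c (x * c) hdc true this
      · have := push c d x hcd true (by simpa using hεd)
        simpa [mul_assoc] using keep d d (x * c) rfl false this
  have hundo : ∀ (i j : Bool) (x : T), x = x * ((if i then c else 1) * if j then d else 1) *
      ((if j then d else 1) * if i then c else 1) := fun i j x => by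
    cases i <;> cases j <;> simp [mul_assoc, hcc, hdd, ← mul_assoc d d]
  obtain ⟨a, ha1, haz, hac, had⟩ : ∃ a, a ≠ 1 ∧ a ≠ z ∧ a * c = c * a ∧ a * d = d * a := by
    by_contra hcon
    push Not at hcon
    obtain ⟨x, hx⟩ := hsmall fun p => (if p.2.2 then z else 1) * ((if p.2.1 then d else 1) * if p.1 then c else 1)
    obtain ⟨i, j, h1, h2⟩ := hdec x
    by_cases r1 : x * ((if i then c else 1) * if j then d else 1) = 1
    · exact hx (i, j, false) (by conv_rhs => rw [hundo i j x, r1]
                                 simp)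
    by_cases r2 : x * ((if i then c else 1) * if j then d else 1) = z
    · exact hx (i, j, true) (by conv_rhs => rw [hundo i j x, r2]
                                simp)
    exact hcon _ r1 r2 h1 h2
  obtain ⟨b, hab, hbc, hbd⟩ : ∃ b, a * b = z * (b * a) ∧ b * c = c * b ∧ b * d = d * b := by
    obtain ⟨x, hx⟩ : ∃ x, a * x = z * (x * a) := by
      by_contra hcon
      push Not at hcon
      exact (hcen a fun t => (hcomm a t).resolve_right (hcon t)).elim ha1 haz
    obtain ⟨i, j, h1, h2⟩ := hdec x
    refine ⟨_, ?_, h1, h2⟩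
    have hau : Commute a ((if i then c else 1) * if j then d else 1) := by
      refine Commute.mul_right ?_ ?_ <;> split_ifs
      exacts [hac, Commute.one_right a, had, Commute.one_right a]
    rw [← mul_assoc, hx, mul_assoc z, mul_assoc x a, hau.eq, ← mul_assoc x]
  have hQ0 : Quad c d a b z := ⟨hcc, hdd, hcd, hab, hac, had, hbc, hbd, hz1, hzz, hzc⟩
  -- bijection with words
  have hbij : ∀ {a b : T}, Quad c d a b z → Function.Bijective (word c d a b z) := fun h =>
    (Nat.bijective_iff_injective_and_card _).2 ⟨h.word_injective, by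
      rw [hcard, Nat.card_eq_fintype_card]; rfl⟩
  -- plus type is impossible
  have hno : ∀ a b : T, Quad c d a b z → a * a = 1 → b * b = 1 → False := by
    intro a b h ha hb
    haveI : Fact (Nat.Prime 5) := ⟨by norm_num⟩
    have hmod := level_card e 5 he5 (fun x => decide (x * x = 1)) (fun x => by simp [hesq x]) true
    let E : {p : Bool × Bool × Bool × Bool × Bool // (p.1 && p.2.1) = (p.2.2.1 && p.2.2.2.1)} ≃
        {x : T // decide (x * x = 1) = true} :=
      (Equiv.ofBijective _ (hbij h)).subtypeEquiv fun p => by simp [h.word_sq ha hb p]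
    let F : {x : T // decide (x * x = 1) = true ∧ e x = x} ≃ ({1, z} : Finset T) :=
      Equiv.subtypeEquivRight fun x => by
        simp only [decide_eq_true_eq, Finset.mem_insert, Finset.mem_singleton]
        refine ⟨fun hx => hefix x hx.2, ?_⟩
        rintro (rfl | rfl)
        · exact ⟨one_mul 1, he1⟩
        · exact ⟨hzz, hez⟩
    rw [← Nat.card_congr E, Nat.card_congr F, Nat.card_eq_fintype_card, Nat.card_eq_fintype_card,
      Fintype.card_coe, Finset.card_pair (Ne.symm hz1)] at hmod
    revert hmod
    decide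
  have hminus : ∀ {a b : T}, Quad c d a b z → a * a = 1 → False := fun {a b} h ha => by
    rcases hsq b with hb | hb
    · exact hno a b h ha hb
    · exact hno a (a * b) h.mulLeft ha (by rw [h.sq_mul h.ab, ha, hb, mul_one, hzz])
  have haa : a * a = z := (hsq a).resolve_left fun h => hminus hQ0 h
  have hbb : b * b = z := (hsq b).resolve_left fun h => hminus hQ0.swap h
  -- the two factors
  have hcd4 : (c * d) ^ 4 = 1 := by
    rw [show 4 = 2 * 2 from rfl, pow_mul, pow_two (c * d), hQ0.sq_mul hcd, hcc, hdd, mul_one, mul_one,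
      pow_two, hzz]
  have hconj : c * (c * d) * c⁻¹ = (c * d)⁻¹ := by
    rw [inv_eq_of_mul_eq_one_right hcc, mul_inv_rev, inv_eq_of_mul_eq_one_right hcc,
      inv_eq_of_mul_eq_one_right hdd, ← mul_assoc, hcc, one_mul]
  let g := Involves.dihedralHom (n := 4) hcd4 hcc hconj
  have ha4 : a ^ 4 = 1 := by rw [show 4 = 2 * 2 from rfl, pow_mul, pow_two a, haa, pow_two, hzz]
  have hw : b * b = a ^ 2 := by rw [pow_two, haa, hbb]
  have hrel : b * a⁻¹ = a * b := by
    rw [inv_eq_of_mul_eq_one_right (show a * (z * a) = 1 by rw [hzc a, ← mul_assoc, haa, hzz]), hab,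
      ← mul_assoc, ← hzc, mul_assoc]
  let q := GLOrder.quaternionHom (n := 2) ha4 hw hrel
  have hoa : orderOf a = 2 * 2 := by
    haveI : Fact (Nat.Prime 2) := ⟨Nat.prime_two⟩
    exact orderOf_eq_prime_pow (p := 2) (n := 1) (by rw [pow_one, pow_two, haa]; exact hz1) ha4
  have hqi : Function.Injective q := GLOrder.quaternionHom_injective hoa hw hrel fun h => by
    obtain ⟨k, hk⟩ := mem_zpowers_iff.1 h
    exact hQ0.ne_comm hab (hk ▸ ((Commute.refl a).zpow_right k).eq)
  have hgz : (c * d) ^ 2 = z := by rw [pow_two, hQ0.sq_mul hcd, hcc, hdd, mul_one, mul_one]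
  have hgi : Function.Injective g := by
    rw [injective_iff_map_eq_one]
    have hne : ∀ k : ℕ, c * (c * d) ^ k ≠ 1 := fun k h => hQ0.ne_comm hcd (by
      have h1 : Commute ((c * d) ^ k) (c * d) := (Commute.refl _).pow_left k
      rw [eq_inv_of_mul_eq_one_right h, inv_eq_of_mul_eq_one_right hcc] at h1
      have h2 : c * (c * d) = c * d * c := h1.eq
      calc c * d = c * (c * (c * d)) := by rw [← mul_assoc, hcc, one_mul]
        _ = c * (c * d * c) := by rw [h2]
        _ = d * c := by rw [mul_assoc c d, ← mul_assoc, hcc, one_mul])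
    rintro (i | i) h
    · rw [Involves.dihedralHom_r, ← orderOf_dvd_iff_pow_eq_one,
        show orderOf (c * d) = 4 from by
          haveI : Fact (Nat.Prime 2) := ⟨Nat.prime_two⟩
          exact orderOf_eq_prime_pow (p := 2) (n := 1) (by rw [pow_one, hgz]; exact hz1) hcd4] at h
      rw [(ZMod.val_eq_zero i).1 (Nat.eq_zero_of_dvd_of_lt h i.val_lt)]
      rfl
    · exact absurd h (hne _)
  refine ⟨q.range, g.range, ⟨(MonoidHom.ofInjective hqi).symm⟩, ⟨(MonoidHom.ofInjective hgi).symm⟩, ?_, ?_, ?_⟩
  · rintro _ ⟨u, rfl⟩ _ ⟨v, rfl⟩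
    have hu : q u ∈ closure {a, b} := by
      cases u with
      | a i => exact pow_mem (subset_closure (by simp)) _
      | xa i => exact mul_mem (subset_closure (by simp)) (pow_mem (subset_closure (by simp)) _)
    have hv : g v ∈ closure {c, d} := by
      have h1 : c * d ∈ closure {c, d} := mul_mem (subset_closure (by simp)) (subset_closure (by simp))
      cases v with
      | r i => exact pow_mem h1 _
      | sr i => exact mul_mem (subset_closure (by simp)) (pow_mem h1 _)
    have h2 : closure {a, b} ≤ centralizer ({c, d} : Set T) := by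
      rw [closure_le]
      rintro s (rfl | rfl) t (rfl | rfl)
      exacts [hac.symm, had.symm, hbc.symm, hbd.symm]
    have h3 : closure ({c, d} : Set T) ≤ centralizer (closure {a, b} : Subgroup T) := by
      rw [closure_le]
      intro t ht s hs
      exact (mem_centralizer_iff.1 (h2 hs) t ht).symm
    exact mem_centralizer_iff.1 (h3 hv) _ hu
  · have ha' : a ∈ q.range := ⟨.a 1, pow_one a⟩
    have hb' : b ∈ q.range := ⟨.xa 0, (congrArg (b * ·) (pow_zero a)).trans (mul_one b)⟩
    have hc' : c ∈ g.range := ⟨.sr 0, (congrArg (c * ·) (pow_zero (c * d))).trans (mul_one c)⟩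
    have hd' : d ∈ g.range := ⟨.sr 1, by
      show c * (c * d) ^ 1 = d
      rw [pow_one, ← mul_assoc, hcc, one_mul]⟩
    refine eq_top_iff.2 fun x _ => ?_
    obtain ⟨p, rfl⟩ := (hbij hQ0).2 x
    have hz' : z ∈ q.range ⊔ g.range := haa ▸ mul_mem (mem_sup_left ha') (mem_sup_left ha')
    refine mul_mem (mul_mem (mul_mem (mul_mem ?_ ?_) ?_) ?_) ?_ <;> split_ifs
    exacts [mem_sup_right hc', one_mem _, mem_sup_right hd', one_mem _, mem_sup_left ha', one_mem _,
      mem_sup_left hb', one_mem _, hz', one_mem _]
  · apply le_antisymm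
    · intro x hx
      obtain ⟨hxA, hxB⟩ := mem_inf.1 hx
      obtain ⟨u, rfl⟩ := hxA
      obtain ⟨v, hv⟩ := hxB
      rw [mem_center_iff]
      intro t
      obtain ⟨p, rfl⟩ := (hbij hQ0).2 t
      have h1 : ∀ u' v', q u' * g v' = g v' * q u' := by
        intro u' v'
        have hA : q u' ∈ centralizer ({c, d} : Set T) := by
          have hm : ∀ k : ℕ, a ^ k ∈ centralizer ({c, d} : Set T) := fun k => pow_mem (by
            rintro t (rfl | rfl)
            exacts [hac.symm, had.symm]) k
          cases u' with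
          | a i => exact hm _
          | xa i => exact mul_mem (by rintro t (rfl | rfl); exacts [hbc.symm, hbd.symm]) (hm _)
        have hc2 : Commute (q u') c := (mem_centralizer_iff.1 hA c (by simp)).symm
        have hd2 : Commute (q u') d := (mem_centralizer_iff.1 hA d (by simp)).symm
        cases v' with
        | r i => exact (hc2.mul_right hd2).pow_right _
        | sr i => exact hc2.mul_right ((hc2.mul_right hd2).pow_right _)
      have cc : Commute (q u) c := by
        have := h1 u (.sr 0)
        rwa [show g (.sr 0) = c from (congrArg (c * ·) (pow_zero (c * d))).trans (mul_one c)] at this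
      have cd' : Commute (q u) d := by
        have := h1 u (.sr 1)
        rwa [show g (.sr 1) = d by
          show c * (c * d) ^ 1 = d
          rw [pow_one, ← mul_assoc, hcc, one_mul]] at this
      have ca : Commute (q u) a := by
        have := h1 (.a 1) v
        rw [hv, show q (.a 1) = a from pow_one a] at this
        exact this.symm
      have cb : Commute (q u) b := by
        have := h1 (.xa 0) v
        rw [hv, show q (.xa 0) = b from (congrArg (b * ·) (pow_zero a)).trans (mul_one b)] at this
        exact this.symm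
      have hi : ∀ {s : T} (i : Bool), Commute (q u) s → Commute (q u) (if i then s else 1) :=
        fun i hs => by cases i <;> simp [hs]
      exact (((((hi _ cc).mul_right (hi _ cd')).mul_right (hi _ ca)).mul_right (hi _ cb)).mul_right
        (hi _ (show Commute (q u) z from (hzc _).symm))).eq.symm
    · intro x hx
      rcases hcen x (fun t => ((mem_center_iff.1 hx) t).symm) with rfl | rfl
      · exact one_mem _
      · exact ⟨⟨.a 2, (pow_two a).trans haa⟩, ⟨.r 2, hgz⟩⟩

end

section

variable {G : Type*} [Group G] [Finite G] {Q : Subgroup G} [Q.Normal] {y n w : G}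
  (S : Setting Q y n w)
include S

/-- The radical is elementary of order 16 or `Q8 ∘ D8`. -/
theorem Setting.shape :
    ((∀ u v : Q, u * v = v * u) ∧ (∀ u : Q, u ^ 2 = 1) ∧ Nat.card Q = 16) ∨
      (Nat.card Q = 32 ∧ ∃ A B : Subgroup Q, Nonempty (↥A ≃* QuaternionGroup 2) ∧
        Nonempty (↥B ≃* DihedralGroup 4) ∧ (∀ a ∈ A, ∀ b ∈ B, a * b = b * a) ∧
        A ⊔ B = ⊤ ∧ A ⊓ B = Subgroup.center Q) := by
  by_cases h0 : phi Q = ⊥
  · left
    have h1 : ∀ a ∈ Q, a * a = 1 := fun a ha => mem_bot.1 (h0 ▸ sq_mem_phi S.two ha)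
    refine ⟨fun u v => ?_, fun u => Subtype.ext (by simpa [pow_two] using h1 u u.2), ?_⟩
    · refine Subtype.ext ?_
      have : (u : G) * v * (u : G)⁻¹ * (v : G)⁻¹ = 1 := mem_bot.1 (h0 ▸ comm_mem_phi S.two u.2 v.2)
      rw [mul_inv_eq_one, mul_inv_eq_iff_eq_mul] at this
      exact this
    · rw [S.card, h0, card_bot]
  right
  have hc2 : Nat.card (phi Q) = 2 := le_antisymm S.card_phi_le ((one_lt_card_iff_ne_bot _).2 h0)
  refine ⟨by rw [S.card, hc2], ?_⟩
  obtain ⟨z₀, hz₀⟩ := Subgroup.ne_bot_iff_exists_ne_one.1 h0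
  have hmem : ∀ f ∈ phi Q, f = 1 ∨ f = z₀ := fun f hf => by
    have h2 : ∀ p q r : phi Q, p = q ∨ p = r ∨ q = r := by
      intro p q r
      by_contra hh
      push Not at hh
      have := Nat.card_le_card_of_injective ![p, q, r] (fun i j e => by
        fin_cases i <;> fin_cases j <;> simp_all)
      rw [hc2] at this
      simp at this
    rcases h2 ⟨f, hf⟩ 1 z₀ with h | h | h
    · exact Or.inl (congrArg Subtype.val h)
    · exact Or.inr (congrArg Subtype.val h)
    · exact absurd h.symm hz₀
  have hzcG : ∀ g : G, g * (z₀ : G) * g⁻¹ = z₀ := fun g =>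
    (hmem _ ((phi_normal Q).conj_mem _ z₀.2 g)).resolve_left fun h => hz₀ (Subtype.ext (by simpa using h))
  set z : Q := ⟨z₀, phi_le Q z₀.2⟩
  have hz1 : z ≠ 1 := fun h => hz₀ (Subtype.ext (congrArg Subtype.val h : (z₀ : G) = 1))
  have hmemQ : ∀ f : Q, (f : G) ∈ phi Q → f = 1 ∨ f = z := fun f hf =>
    (hmem _ hf).imp (fun h => Subtype.ext h) (fun h => Subtype.ext h)
  have hzc : ∀ x : Q, z * x = x * z := fun x =>
    Subtype.ext (mul_inv_eq_iff_eq_mul.1 (hzcG x)).symm
  have hsq : ∀ x : Q, x * x = 1 ∨ x * x = z := fun x => hmemQ _ (sq_mem_phi S.two x.2)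
  have hcomm : ∀ u v : Q, u * v = v * u ∨ u * v = z * (v * u) := fun u v => by
    rcases hmemQ (u * v * u⁻¹ * v⁻¹) (comm_mem_phi S.two u.2 v.2) with h | h
    · exact Or.inl (by simpa [mul_inv_eq_one, mul_inv_eq_iff_eq_mul] using h)
    · exact Or.inr (by rw [← h]; group)
  have hzz : z * z = 1 := by
    rcases hsq z with h | h
    · exact h
    · exact absurd (mul_eq_right.1 h) hz1
  have hnab : ∃ u v : Q, u * v ≠ v * u := by
    by_contra hcon
    push Not at hcon
    let sq : Q →* Q :=
      { toFun := fun x => x * x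
        map_one' := one_mul 1
        map_mul' := fun u v => by rw [mul_assoc u v, ← mul_assoc v u v, ← hcon u v]; group }
    have hk : phi Q ≤ sq.ker.map Q.subtype := fun f hf =>
      ⟨⟨f, phi_le Q hf⟩, by
        rcases hmemQ ⟨f, phi_le Q hf⟩ hf with h | h <;> rw [SetLike.mem_coe, MonoidHom.mem_ker, h]
        exacts [one_mul 1, hzz], rfl⟩
    rcases S.irr hk (map_subtype_le _) (by
      rintro _ ⟨x, hx, rfl⟩
      refine ⟨MulAut.conjNormal y x, ?_, MulAut.conjNormal_apply y x⟩
      show MulAut.conjNormal y x * MulAut.conjNormal y x = 1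
      rw [← map_mul, show x * x = 1 from hx, map_one]) with h | h
    · have h1 := sq.ker.card_mul_index
      rw [index_ker, ← card_map_of_injective (f := Q.subtype) Q.subtype_injective] at h1
      have h2 := card_le_of_le h
      have h3 : Nat.card sq.range ≤ 2 := by
        have : sq.range ≤ (phi Q).subgroupOf Q := by
          rintro _ ⟨x, rfl⟩
          exact sq_mem_phi S.two x.2
        refine (card_le_of_le this).trans ?_
        rw [Nat.card_congr (subgroupOfEquivOfLe (phi_le Q)).toEquiv, hc2]
      have := Nat.mul_le_mul h2 h3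
      rw [h1, S.card, hc2] at this
      omega
    · refine h0 (le_bot_iff.1 (phi_le_of_sq fun a ha => mem_bot.2 ?_))
      obtain ⟨x, hx, rfl⟩ := h ha
      exact congrArg Subtype.val (show x * x = 1 from hx)
  have hcen : ∀ x : Q, (∀ t, x * t = t * x) → x = 1 ∨ x = z := by
    have hk : phi Q ≤ (center Q).map Q.subtype := fun f hf =>
      ⟨⟨f, phi_le Q hf⟩, mem_center_iff.2 fun t => by
        rcases hmemQ ⟨f, phi_le Q hf⟩ hf with h | h <;> rw [h]
        · simp
        · exact (hzc t).symm, rfl⟩
    rcases S.irr hk (map_subtype_le _) (by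
      rintro _ ⟨x, hx, rfl⟩
      refine ⟨MulAut.conjNormal y x, mem_center_iff.2 fun t => ?_, MulAut.conjNormal_apply y x⟩
      obtain ⟨t', rfl⟩ := (MulAut.conjNormal (H := Q) y).surjective t
      rw [← map_mul, ← map_mul, mem_center_iff.1 hx t']) with h | h
    · exact fun x hx => hmemQ x (h ⟨x, mem_center_iff.2 fun t => (hx t).symm, rfl⟩)
    · obtain ⟨u, v, huv⟩ := hnab
      obtain ⟨u', hu', he⟩ := h u.2
      rw [Q.subtype_injective he] at hu'
      exact absurd (mem_center_iff.1 hu' v).symm huv
  refine shape32 hz1 hzz hzc hcomm hsq hcen (by rw [S.card, hc2])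
    (MulAut.toPerm Q (MulAut.conjNormal y)) ?_ (fun x => ?_) (fun x hx => ?_) ?_ ?_
  · rw [← map_pow, ← map_pow, S.y5, map_one, map_one]
  · show MulAut.conjNormal y x * MulAut.conjNormal y x = 1 ↔ _
    rw [← map_mul, map_eq_one_iff _ (MulAut.conjNormal y).injective]
  · refine hmemQ x (S.fpfV x x.2 ?_)
    have : y * (x : G) * y⁻¹ = x := by
      rw [← MulAut.conjNormal_apply]; exact congrArg Subtype.val hx
    rw [this, mul_inv_cancel]
    exact one_mem _
  · exact map_one (MulAut.conjNormal (H := Q) y)
  · exact Subtype.ext (by rw [MulAut.toPerm]; exact (MulAut.conjNormal_apply y z).trans (hzcG y))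

end

end Cfsg.Agent.RankFourRadical
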