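import Cfsg.Agent.Lib.RankFourRadical.Core

/-!
# The layer has order two

* `level_card`: an invariant function on a set under an element of prime order.
* `Setting.layer_le_two`: `|Φ(Q) : M| ≤ 2` for a central elementary layer `M`.
-/

set_option autoImplicit false

namespace Cfsg.Agent.RankFourRadical

open Subgroup

section

/-- In an abelian group of exponent two. -/
theorem four_identity {T : Type*} [CommGroup T] (h : ∀ x : T, x * x = 1) (a b c s : T) :
    c * s = c * a * b * s * (a * s * (b * s)) := by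
  calc c * s = c * s * ((a * a) * (b * b) * (s * s)) := by rw [h a, h b, h s]; simp
    _ = _ := by ac_rfl

theorem level_card {α β : Type*} [Finite α] (e : Equiv.Perm α) (p : ℕ) [Fact p.Prime] (he : e ^ p = 1)
    (f : α → β) (hf : ∀ a, f (e a) = f a) (b : β) :
    Nat.card {a // f a = b} ≡ Nat.card {a // f a = b ∧ e a = a} [MOD p] := by
  let σ : Equiv.Perm {a // f a = b} := e.subtypePerm fun a => by rw [hf]
  have hp : IsPGroup p (zpowers σ) := by
    intro g
    obtain ⟨k, hk⟩ := mem_zpowers_iff.1 g.2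
    refine ⟨1, Subtype.ext ?_⟩
    have hσ : σ ^ p = 1 := by
      ext a
      simp [σ, Equiv.Perm.subtypePerm_pow, he]
    show (g : Equiv.Perm {a // f a = b}) ^ (p ^ 1) = 1
    rw [← hk, pow_one, ← zpow_natCast, ← zpow_mul, mul_comm, zpow_mul, zpow_natCast, hσ, one_zpow]
  have eF : MulAction.fixedPoints (zpowers σ) {a // f a = b} ≃ {a // f a = b ∧ e a = a} :=
    { toFun := fun a => ⟨(a : {a // f a = b}).1, (a : {a // f a = b}).2,
        congrArg Subtype.val (a.2 ⟨σ, mem_zpowers σ⟩)⟩
      invFun := fun a => ⟨⟨a.1, a.2.1⟩, fun g => by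
        obtain ⟨k, hk⟩ := mem_zpowers_iff.1 g.2
        show (g : Equiv.Perm {a // f a = b}) ⟨a.1, a.2.1⟩ = ⟨a.1, a.2.1⟩
        rw [← hk]
        exact Equiv.Perm.zpow_apply_eq_self_of_apply_eq_self (Subtype.ext a.2.2) k⟩
      left_inv := fun a => rfl
      right_inv := fun a => rfl }
  rw [← Nat.card_congr eF]
  exact hp.card_modEq_card_fixedPoints _

variable {G : Type*} [Group G] [Finite G] {Q : Subgroup G} [Q.Normal] {y n w : G}
  (S : Setting Q y n w)
include S

/-- A layer of `Φ(Q)` has order at most two. -/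
theorem Setting.layer_le_two {M : Subgroup G} (hM : Layer Q (phi Q) M) :
    Nat.card (phi Q) ≤ 2 * Nat.card M := by
  classical
  haveI := hM.normal
  by_contra hbig
  push Not at hbig
  set π := QuotientGroup.mk' M
  set ρ := QuotientGroup.mk' (phi Q)
  set V := Q.map ρ with hV
  haveI : V.Normal := Normal.map inferInstance ρ (QuotientGroup.mk'_surjective _)
  have hT : ∀ g : G, ∀ t ∈ phi Q, π g * π t * (π g)⁻¹ = π t := fun g t ht => by
    rw [← mul_inv_eq_one, ← map_inv, ← map_inv, ← map_mul, ← map_mul, ← map_mul]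
    exact (QuotientGroup.eq_one_iff _).2 (S.fix_all hM g t ht)
  have hwd : ∀ a ∈ Q, ∀ f ∈ phi Q, π (a * f) * π (a * f) = π a * π a := fun a ha f hf => by
    rw [map_mul]
    have hc : π f * π a = π a * π f := hM.mk_comm hf ha
    rw [mul_assoc, ← mul_assoc (π f), hc, mul_assoc (π a) (π f) (π f), show π f * π f = 1 from hM.mk_sq hf,
      mul_one]
  choose rep hrep hrepV using fun v : V => (mem_map.1 v.2)
  let q : V → G ⧸ M := fun v => π (rep v) * π (rep v)
  have hq : ∀ (v : V) (a : G), a ∈ Q → ρ a = v → q v = π a * π a := fun v a ha hav => by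
    have hmem : (rep v)⁻¹ * a ∈ phi Q := QuotientGroup.eq.1 ((hrepV v).trans hav.symm)
    have := hwd (rep v) (hrep v) _ hmem
    rw [mul_inv_cancel_left] at this
    exact this.symm
  -- equivariance
  let act : G → Equiv.Perm V := fun g => (MulAut.conjNormal (H := V) (ρ g)).toEquiv
  have hact : ∀ g (v : V), q (act g v) = q v := fun g v => by
    rw [hq (act g v) (g * rep v * g⁻¹) ((inferInstance : Q.Normal).conj_mem _ (hrep v) g)
      (by rw [map_mul, map_mul, map_inv, hrepV]; rfl), map_mul, map_mul, map_inv]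
    show _ = π (rep v) * π (rep v)
    have h := hT g _ (sq_mem_phi S.two (hrep v))
    rw [map_mul] at h
    rw [← h]; group
  -- values off the identity
  let D := {v : V // v ≠ 1}
  have hval : ∀ U : Subgroup (G ⧸ M), (∀ v : D, q v.1 ∈ U) → (phi Q).map π ≤ U := by
    intro U hU
    have hUn : ((U ⊓ (phi Q).map π)).Normal := by
      refine ⟨fun t ht g => ?_⟩
      obtain ⟨g, rfl⟩ := QuotientGroup.mk'_surjective M g
      obtain ⟨t', ht', rfl⟩ := ht.2
      rw [hT g t' ht']; exact ht
    haveI := hUn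
    have hsq : ∀ a ∈ Q, a * a ∈ (U ⊓ (phi Q).map π).comap π := fun a ha => by
      refine mem_comap.2 ⟨?_, mem_map_of_mem π (sq_mem_phi S.two ha)⟩
      by_cases hb : (⟨ρ a, mem_map_of_mem ρ ha⟩ : V) = 1
      · have hab : a ∈ phi Q := (QuotientGroup.eq_one_iff _).1 (congrArg Subtype.val hb)
        rw [map_mul, show π a * π a = 1 from hM.mk_sq hab]
        exact one_mem U
      · rw [map_mul, ← hq ⟨ρ a, mem_map_of_mem ρ ha⟩ a ha rfl]
        exact hU ⟨_, hb⟩
    exact (map_le_iff_le_comap.2 (phi_le_of_sq hsq)).trans inf_le_left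
  have hcardV : Nat.card V = 16 := by
    have h := card_map_mk (phi_le Q)
    rw [S.card] at h
    exact Nat.eq_of_mul_eq_mul_right Nat.card_pos h
  have hcardT : 3 ≤ Nat.card ((phi Q).map π) := by
    have h : Nat.card ((phi Q).map π) * Nat.card M = Nat.card (phi Q) := card_map_mk hM.le
    by_contra hlt
    have : Nat.card ((phi Q).map π) * Nat.card M ≤ 2 * Nat.card M := Nat.mul_le_mul_right _ (by omega)
    omega
  haveI := Fintype.ofFinite D
  have hD : Fintype.card D = 15 := by
    haveI := Fintype.ofFinite V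
    rw [Fintype.card_subtype_compl, Fintype.card_subtype_eq, ← Nat.card_eq_fintype_card, hcardV]
  -- at least three values
  let L := Finset.univ.image fun v : D => q v.1
  have hLT : ∀ s ∈ L, s ∈ (phi Q).map π := fun s hs => by
    obtain ⟨v, -, rfl⟩ := Finset.mem_image.1 hs
    exact ⟨_, sq_mem_phi S.two (hrep v.1), by rw [map_mul]⟩
  have hsqT : ∀ s ∈ (phi Q).map π, s * s = 1 := by
    rintro _ ⟨t, ht, rfl⟩
    exact hM.mk_sq ht
  have hL3 : 3 ≤ L.card := by
    by_contra hlt
    obtain ⟨v₀⟩ : Nonempty D := Fintype.card_pos_iff.1 (by omega)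
    set s := q v₀.1
    have hs : s ∈ L := Finset.mem_image.2 ⟨v₀, Finset.mem_univ _, rfl⟩
    obtain ⟨t, htT, ht⟩ : ∃ t ∈ (phi Q).map π, ∀ v : D, q v.1 = s ∨ q v.1 = t := by
      by_cases h : ∃ t ∈ L, t ≠ s
      · obtain ⟨t, ht, hne⟩ := h
        refine ⟨t, hLT t ht, fun v => ?_⟩
        by_contra hc
        push Not at hc
        have : ({s, t, q v.1} : Finset (G ⧸ M)).card ≤ L.card := Finset.card_le_card (by
          intro x hx
          simp only [Finset.mem_insert, Finset.mem_singleton] at hx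
          rcases hx with rfl | rfl | rfl
          · exact hs
          · exact ht
          · exact Finset.mem_image.2 ⟨v, Finset.mem_univ _, rfl⟩)
        rw [Finset.card_insert_of_notMem (by simp [hne.symm, hc.1.symm]),
          Finset.card_pair hc.2.symm] at this
        omega
      · push Not at h
        exact ⟨1, one_mem _, fun v => Or.inl (h _ (Finset.mem_image.2 ⟨v, Finset.mem_univ _, rfl⟩))⟩
    -- all values lie in one coset of `U`
    set U := zpowers (s * t) with hU
    have hst : (s * t) * (s * t) = 1 := hsqT _ (mul_mem (hLT s hs) htT)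
    have hUcard : Nat.card U ≤ 2 := by
      rw [hU, Nat.card_zpowers]
      exact Nat.le_of_dvd two_pos (orderOf_dvd_of_pow_eq_one (by rw [pow_two, hst]))
    by_cases hsU : s ∈ U
    · have hall : ∀ v : D, q v.1 ∈ U := fun v => by
        rcases ht v with h | h
        · exact h ▸ hsU
        · rw [h, show t = s⁻¹ * (s * t) by group]
          exact mul_mem (inv_mem hsU) (mem_zpowers _)
      have := card_le_of_le (hval U hall)
      omega
    -- a coset off `U` would make the commutator map constant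
    have hcU : ∀ u ∈ U, ∀ z ∈ (phi Q).map π, u * z = z * u := by
      intro u hu z hz
      have h : Commute (s * t) z := by
        have h1 := hsqT z hz
        have h2 := hsqT _ (mul_mem (mul_mem (hLT s hs) htT) hz)
        show _ = _
        calc s * t * z = (s * t * z)⁻¹ := (inv_eq_of_mul_eq_one_right h2).symm
          _ = z⁻¹ * (s * t)⁻¹ := mul_inv_rev _ _
          _ = z * (s * t) := by rw [inv_eq_of_mul_eq_one_right h1, inv_eq_of_mul_eq_one_right hst]
      obtain ⟨k, rfl⟩ := mem_zpowers_iff.1 hu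
      exact (h.zpow_left k).eq
    have hco : ∀ v : D, q v.1 * s ∈ U := fun v => by
      rcases ht v with h | h
      · rw [h, hsqT s (hLT s hs)]; exact one_mem U
      · rw [h, show t * s = (s * t)⁻¹ by
          rw [mul_inv_rev, inv_eq_of_mul_eq_one_right (hsqT s (hLT s hs)), inv_eq_of_mul_eq_one_right (hsqT t htT)]]
        exact inv_mem (mem_zpowers _)
    -- three independent vectors
    have hVc : ∀ u v : V, (u : G ⧸ phi Q) * v = v * u := fun u v => by
      rw [← hrepV u, ← hrepV v, ← mul_inv_eq_one, mul_inv_rev, ← mul_assoc, ← map_inv, ← map_inv,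
        ← map_mul, ← map_mul, ← map_mul]
      exact (QuotientGroup.eq_one_iff _).2 (comm_mem_phi S.two (hrep u) (hrep v))
    have hV2 : ∀ u : V, u * u = 1 := fun u => Subtype.ext (by
      rw [coe_mul, ← hrepV u, ← map_mul]
      exact (QuotientGroup.eq_one_iff _).2 (sq_mem_phi S.two (hrep u)))
    obtain ⟨a⟩ : Nonempty D := ⟨v₀⟩
    haveI := Fintype.ofFinite V
    have hex : ∀ F : Finset V, F.card < 16 → ∃ x, x ∉ F := fun F hF => by
      by_contra h
      push Not at h
      have := Finset.card_le_card (s := (Finset.univ : Finset V)) (t := F) fun x _ => h x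
      rw [Finset.card_univ, ← Nat.card_eq_fintype_card, hcardV] at this
      omega
    obtain ⟨b, hb⟩ := hex {1, a.1} (lt_of_le_of_lt Finset.card_le_two (by omega))
    obtain ⟨c, hc⟩ := hex {1, a.1, b, a.1 * b} (lt_of_le_of_lt Finset.card_le_four (by omega))
    simp only [Finset.mem_insert, Finset.mem_singleton, not_or] at hb hc
    -- commutators of independent pairs
    have hB : ∀ u v : G, u ∈ Q → v ∈ Q → ρ u ≠ 1 → ρ v ≠ 1 → ρ u * ρ v ≠ 1 →
        π (v * u * v⁻¹ * u⁻¹) * s ∈ U := by
      intro u v hu hv hu1 hv1 huv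
      have hf : ∀ x ∈ Q, ρ x ≠ 1 → π x * π x * s ∈ U := fun x hx h1 => by
        have := hco ⟨⟨ρ x, mem_map_of_mem ρ hx⟩, fun e => h1 (congrArg Subtype.val e)⟩
        rwa [hq _ x hx rfl] at this
      have huT : π u * π u ∈ (phi Q).map π := by
        rw [← map_mul]; exact mem_map_of_mem π (sq_mem_phi S.two hu)
      have hvT : π v * π v ∈ (phi Q).map π := by
        rw [← map_mul]; exact mem_map_of_mem π (sq_mem_phi S.two hv)
      have hsum : π (v * u * v⁻¹ * u⁻¹) * s =
          (π (u * v) * π (u * v) * s) * ((π u * π u * s) * (π v * π v * s)) := by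
        have hc1 : ∀ x ∈ Q, π (v * u * v⁻¹ * u⁻¹) * π x = π x * π (v * u * v⁻¹ * u⁻¹) := fun x hx =>
          hM.mk_comm (comm_mem_phi S.two hv hu) hx
        have hexp : π (u * v) * π (u * v) = π (v * u * v⁻¹ * u⁻¹) * (π u * π u) * (π v * π v) := by
          calc π (u * v) * π (u * v) = π u * π (v * u * v⁻¹ * u⁻¹) * π u * (π v * π v) := by
                simp only [map_mul, map_inv]; group
            _ = π (v * u * v⁻¹ * u⁻¹) * (π u * π u) * (π v * π v) := by rw [← hc1 u hu]; group
        letI : CommGroup ((phi Q).map π) :=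
          { mul_comm := by
              rintro ⟨_, z, hz, rfl⟩ ⟨_, z', hz', rfl⟩
              exact Subtype.ext (hM.mk_comm hz (phi_le Q hz')) }
        rw [hexp]
        exact congrArg Subtype.val (four_identity (T := (phi Q).map π) (fun x => Subtype.ext (hsqT _ x.2))
          ⟨_, huT⟩ ⟨_, hvT⟩ ⟨_, mem_map_of_mem π (comm_mem_phi S.two hv hu)⟩ ⟨s, hLT s hs⟩)
      rw [hsum]
      refine mul_mem (hf _ (mul_mem hu hv) (by rwa [map_mul])) (mul_mem (hf u hu hu1) (hf v hv hv1))
    obtain ⟨a₀, ha₀, ea⟩ := a.1.2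
    obtain ⟨b₀, hb₀, eb⟩ := b.2
    obtain ⟨c₀, hc₀, ec⟩ := c.2
    have ne1 : ∀ {v : V}, v ≠ 1 → (v : G ⧸ phi Q) ≠ 1 := fun h e => h (Subtype.ext e)
    have hmul1 : ∀ {u v : V}, u ≠ v → (u : G ⧸ phi Q) * v ≠ 1 := fun {u v} h e => h (by
      have h1 : (u : G ⧸ phi Q) * v = (v * v : V) := by rw [hV2 v, e]; rfl
      exact Subtype.ext (mul_right_cancel h1))
    have hba : (b : G ⧸ phi Q) * a.1 ≠ 1 := hmul1 hb.2
    have k1 := hB b₀ a₀ hb₀ ha₀ (eb ▸ ne1 hb.1) (ea ▸ ne1 a.2) (by rw [ea, eb]; exact hba)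
    have k2 := hB c₀ a₀ hc₀ ha₀ (ec ▸ ne1 hc.1) (ea ▸ ne1 a.2) (by rw [ea, ec]; exact hmul1 hc.2.1)
    have k3 := hB (b₀ * c₀) a₀ (mul_mem hb₀ hc₀) ha₀
      (by rw [map_mul, eb, ec]; exact hmul1 (Ne.symm hc.2.2.1))
      (ea ▸ ne1 a.2)
      (by
        rw [map_mul, ea, eb, ec]
        intro e
        refine hc.2.2.2 (Subtype.ext ?_)
        have hi : ∀ u : V, ((u : G ⧸ phi Q))⁻¹ = u := fun u =>
          inv_eq_of_mul_eq_one_right (congrArg Subtype.val (hV2 u))
        calc (c : G ⧸ phi Q) = (b : G ⧸ phi Q)⁻¹ * ((b : G ⧸ phi Q) * c * a.1) * (a.1 : G ⧸ phi Q)⁻¹ := by group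
          _ = b * a.1 := by rw [e, mul_one, hi, hi]
          _ = _ := by rw [hVc b a.1]; rfl)
    have hadd : π (a₀ * (b₀ * c₀) * a₀⁻¹ * (b₀ * c₀)⁻¹) =
        π (a₀ * b₀ * a₀⁻¹ * b₀⁻¹) * π (a₀ * c₀ * a₀⁻¹ * c₀⁻¹) := by
      have h := hT b₀ _ (comm_mem_phi S.two ha₀ hc₀)
      conv_rhs => rw [← h]
      simp only [map_mul, map_inv]; group
    rw [hadd] at k3
    have : s ∈ U := by
      have h12 := mul_mem k1 k2
      set X := π (a₀ * b₀ * a₀⁻¹ * b₀⁻¹)
      set Y := π (a₀ * c₀ * a₀⁻¹ * c₀⁻¹)
      have hXT : X ∈ (phi Q).map π := mem_map_of_mem π (comm_mem_phi S.two ha₀ hb₀)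
      have hYT : Y ∈ (phi Q).map π := mem_map_of_mem π (comm_mem_phi S.two ha₀ hc₀)
      obtain ⟨y', hy', hy''⟩ := hYT
      obtain ⟨s', hs', hs''⟩ := hLT s hs
      have hsY : s * Y = Y * s := by
        rw [← hy'', ← hs'']; exact hM.mk_comm hs' (phi_le Q hy')
      have : s = (X * s * (Y * s))⁻¹ * (X * Y * s) := by
        rw [mul_assoc X s, ← mul_assoc s Y, hsY, mul_assoc Y, hsqT s (hLT s hs), mul_one]; group
      rw [this]
      exact mul_mem (inv_mem h12) k3
    exact hsU this
  -- level sets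
  have hsum : ∑ s ∈ L, (Finset.univ.filter fun v : D => q v.1 = s).card = 15 := by
    rw [← Finset.card_eq_sum_card_image, Finset.card_univ, hD]
  have hperm : ∀ g : G, ∃ e : Equiv.Perm D, ∀ v : D, (e v).1 = act g v.1 := fun g =>
    ⟨(act g).subtypePerm fun v => by
      simp [act, map_eq_one_iff _ (MulEquiv.injective _)], fun v => rfl⟩
  obtain ⟨ey, hey⟩ := hperm y
  obtain ⟨ew, hew⟩ := hperm w
  have hpow : ∀ (g : G) (e : Equiv.Perm D) (k : ℕ), (∀ v : D, (e v).1 = act g v.1) → g ^ k = 1 → e ^ k = 1 := by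
    intro g e k he hk
    have h1 : ∀ (i : ℕ) (v : D), ((e ^ i) v).1 = act (g ^ i) v.1 := fun i => by
      induction i with
      | zero => intro v; simp [act]
      | succ i ih =>
        intro v
        rw [pow_succ', Equiv.Perm.mul_apply, he, ih, pow_succ']
        simp [act, map_mul]
    ext v
    rw [Equiv.Perm.one_apply, h1, hk]
    simp [act]
  haveI : Fact (Nat.Prime 5) := ⟨by norm_num⟩
  haveI : Fact (Nat.Prime 3) := ⟨by norm_num⟩
  have hlev : ∀ s, Nat.card {v : D // q v.1 = s} = (Finset.univ.filter fun v : D => q v.1 = s).card := fun s => by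
    rw [Nat.card_eq_fintype_card, Fintype.card_subtype]
  have hfive : ∀ s ∈ L, 5 ≤ (Finset.univ.filter fun v : D => q v.1 = s).card := fun s hs => by
    have h := level_card ey 5 (hpow y ey 5 hey S.y5) (fun v => q v.1) (fun v => by rw [hey]; exact hact y v.1) s
    have h0 : Nat.card {v : D // q v.1 = s ∧ ey v = v} = 0 := by
      rw [Nat.card_eq_zero]
      refine Or.inl ⟨fun ⟨v, _, hv⟩ => v.2 (Subtype.ext ?_)⟩
      have hv' : act y v.1 = v.1 := by rw [← hey, hv]
      have hv'' : ρ y * (v.1 : G ⧸ phi Q) * (ρ y)⁻¹ = v.1 := congrArg Subtype.val hv'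
      rw [← hrepV v.1, ← map_inv, ← map_mul, ← map_mul, ← mul_inv_eq_one, ← map_inv, ← map_mul] at hv''
      rw [← hrepV v.1]
      exact (QuotientGroup.eq_one_iff _).2 (S.fpfV _ (hrep _) ((QuotientGroup.eq_one_iff _).1 hv''))
    rw [h0, hlev] at h
    obtain ⟨v, -, hv⟩ := Finset.mem_image.1 hs
    exact Nat.le_of_dvd (Finset.card_pos.2 ⟨v, by simp [hv]⟩) (Nat.modEq_zero_iff_dvd.1 h)
  have hL3' : L.card = 3 ∧ ∀ s ∈ L, (Finset.univ.filter fun v : D => q v.1 = s).card = 5 := by
    have h1 : 5 * L.card ≤ 15 := by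
      rw [← hsum, mul_comm]
      exact Finset.card_nsmul_le_sum L _ 5 hfive |>.trans_eq' (by simp)
    refine ⟨by omega, fun s hs => ?_⟩
    have h2 := Finset.sum_erase_add L (fun s => (Finset.univ.filter fun v : D => q v.1 = s).card) hs
    rw [hsum] at h2
    have h3 : 5 * 2 ≤ ∑ x ∈ L.erase s, (Finset.univ.filter fun v : D => q v.1 = x).card := by
      refine le_trans ?_ (Finset.card_nsmul_le_sum _ _ 5 fun x hx => hfive x (Finset.mem_of_mem_erase hx))
      rw [Finset.card_erase_of_mem hs, smul_eq_mul]; omega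
    have := hfive s hs
    omega
  have hwfix : 6 ≤ (Finset.univ.filter fun v : D => ew v = v).card := by
    have h1 : ∀ s ∈ L, 2 ≤ ((Finset.univ.filter fun v : D => ew v = v).filter fun v => q v.1 = s).card := fun s hs => by
      have h := level_card ew 3 (hpow w ew 3 hew S.w3) (fun v => q v.1) (fun v => by rw [hew]; exact hact w v.1) s
      rw [hlev, hL3'.2 s hs, Nat.card_eq_fintype_card, Fintype.card_subtype] at h
      rw [Finset.filter_filter]
      have h5 : (5 : ℕ) % 3 = 2 := rfl
      unfold Nat.ModEq at h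
      have : (Finset.univ.filter fun v : D => ew v = v ∧ q v.1 = s) =
          (Finset.univ.filter fun v : D => q v.1 = s ∧ ew v = v) := by
        ext v; simp [and_comm]
      rw [this]
      omega
    calc 6 = ∑ _s ∈ L, 2 := by rw [Finset.sum_const, hL3'.1]; rfl
      _ ≤ _ := Finset.sum_le_sum h1
      _ ≤ _ := by
        rw [← Finset.card_biUnion (fun s _ t _ hst => Finset.disjoint_left.2 fun v hv hv' => by
          simp only [Finset.mem_filter] at hv hv'
          exact hst (hv.2.symm.trans hv'.2))]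
        refine Finset.card_le_card fun v hv => ?_
        simp only [Finset.mem_biUnion, Finset.mem_filter] at hv ⊢
        obtain ⟨s, -, h, -⟩ := hv
        exact h
  -- the fixed points of `w`
  haveI := Fintype.ofFinite V
  let d : V →* V :=
    { toFun := fun v => act w v * v⁻¹
      map_one' := by simp [act]
      map_mul' := fun u v => by
        have hc : ∀ a b : V, a * b = b * a := fun a b => Subtype.ext (by
          rw [coe_mul, coe_mul, ← hrepV a, ← hrepV b, ← mul_inv_eq_one, mul_inv_rev, ← mul_assoc,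
            ← map_inv, ← map_inv, ← map_mul, ← map_mul, ← map_mul]
          exact (QuotientGroup.eq_one_iff _).2 (comm_mem_phi S.two (hrep a) (hrep b)))
        have : act w (u * v) = act w u * act w v := map_mul (MulAut.conjNormal (H := V) (ρ w)) u v
        rw [this, mul_inv_rev, hc v⁻¹ u⁻¹, mul_assoc, ← mul_assoc (act w v), hc (act w v) u⁻¹,
          mul_assoc u⁻¹, ← mul_assoc (act w u)] }
  have hker8 : 7 ≤ Nat.card d.ker := by
    rw [Nat.card_eq_fintype_card]
    let e : Option {v : D // ew v = v} → d.ker := fun o => o.elim 1 fun v =>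
      ⟨v.1.1, by rw [MonoidHom.mem_ker]; show act w v.1.1 * v.1.1⁻¹ = 1; rw [← hew, v.2, mul_inv_cancel]⟩
    have he : Function.Injective e := by
      rintro (_ | u) (_ | v) h
      · rfl
      · exact absurd (congrArg Subtype.val h).symm v.1.2
      · exact absurd (congrArg Subtype.val h) u.1.2
      · exact congrArg some (Subtype.ext (Subtype.ext (congrArg (fun x : d.ker => (x : V)) h)))
    have := Fintype.card_le_of_injective e he
    rw [Fintype.card_option, Fintype.card_subtype] at this
    omega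
  have hrange : Nat.card d.range ≤ 2 := by
    have h := d.ker.card_mul_index
    rw [index_ker, hcardV] at h
    by_contra hlt
    have : 7 * 3 ≤ Nat.card d.ker * Nat.card d.range := Nat.mul_le_mul hker8 (by omega)
    omega
  obtain ⟨a, ha, hwa⟩ := S.wV
  set v : V := ⟨ρ a, mem_map_of_mem ρ ha⟩
  set z := d v with hz
  have hz1 : z ≠ 1 := fun h => hwa ((QuotientGroup.eq_one_iff _).1 (by
    have h' : ρ w * ρ a * (ρ w)⁻¹ * (ρ a)⁻¹ = 1 := congrArg Subtype.val h
    rw [← map_inv, ← map_inv, ← map_mul, ← map_mul, ← map_mul] at h'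
    exact h'))
  have hzw : act w z = z := by
    have hmul : ∀ u u' : V, act w (u * u') = act w u * act w u' := fun u u' =>
      map_mul (MulAut.conjNormal (H := V) (ρ w)) u u'
    have hinv : ∀ u : V, act w u⁻¹ = (act w u)⁻¹ := fun u =>
      map_inv (MulAut.conjNormal (H := V) (ρ w)) u
    have hmem : act w z ∈ d.range := ⟨act w v, by
      show act w (act w v) * (act w v)⁻¹ = act w (act w v * v⁻¹)
      rw [hmul, hinv]⟩
    have hne : act w z ≠ 1 := fun h => hz1 ((act w).injective (h.trans
      (map_one (MulAut.conjNormal (H := V) (ρ w))).symm))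
    have h2 : Nat.card d.range = 2 := le_antisymm hrange (by
      haveI : Nontrivial d.range := ⟨⟨⟨z, v, rfl⟩, 1, fun h => hz1 (congrArg Subtype.val h)⟩⟩
      exact Finite.one_lt_card)
    obtain ⟨x, -, hx⟩ := (Nat.card_eq_two_iff' (1 : d.range)).1 h2
    have e1 := hx ⟨act w z, hmem⟩ fun h => hne (congrArg Subtype.val h)
    have e2 := hx ⟨z, v, rfl⟩ fun h => hz1 (congrArg Subtype.val h)
    exact congrArg Subtype.val (e1.trans e2.symm)
  have hwv : act w v = z * v := mul_inv_eq_iff_eq_mul.1 (rfl : act w v * v⁻¹ = z)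
  have hmul : ∀ u u' : V, act w (u * u') = act w u * act w u' := fun u u' =>
    map_mul (MulAut.conjNormal (H := V) (ρ w)) u u'
  have h3 : act w (act w (act w v)) = v := by
    have : (MulAut.conjNormal (H := V) (ρ w)) ^ 3 = 1 := by rw [← map_pow, ← map_pow, S.w3, map_one, map_one]
    exact DFunLike.congr_fun this v
  rw [hwv, hmul, hzw, hwv, hmul, hzw, hmul, hzw, hwv] at h3
  have hz2 : z * z = 1 := Subtype.ext (by
    rw [coe_mul, ← hrepV z, ← map_mul]
    exact (QuotientGroup.eq_one_iff _).2 (sq_mem_phi S.two (hrep z)))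
  rw [← mul_assoc z z, hz2, one_mul] at h3
  exact hz1 (mul_eq_right.1 h3)

end

end Cfsg.Agent.RankFourRadical
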